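import Cfsg.Agent.RuE.KillData
import Cfsg.Agent.RuD.Rels

/-!
# Exclusion of `(f s f⁻¹ y)³ = 1`

Elements satisfying the relations of `RuRels` except `last`, with `(f s f⁻¹ y)³ = 1` instead: then `y` lies in the
subgroup generated by `t, s, w, f, d` (coset enumeration certificate).
-/

set_option autoImplicit false

namespace Cfsg.Agent.RuE.Kill

open Cfsg.Agent.SporRec.TCUpperCert Cfsg.Agent.RuD.Rels

/-- the relations of `RuRels` except `last` -/
structure Pre {G : Type*} [Group G] (t s w f d y : G) : Prop where
  s4 : s * s * s * s = 1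
  w2 : w * w = 1
  f7 : f * f * f * f * f * f * f = 1
  wf : w * f * w * f = 1
  ws : s⁻¹ * s⁻¹ * w * s * w * s⁻¹ * w = 1
  h1 : f⁻¹ * f⁻¹ * f⁻¹ * s⁻¹ * f * f * s⁻¹ * f * s⁻¹ = 1
  h2 : f⁻¹ * s⁻¹ * s⁻¹ * f * s⁻¹ * f⁻¹ * s⁻¹ * s⁻¹ * f * s = 1
  h3 : f⁻¹ * s⁻¹ * f * s⁻¹ * s⁻¹ * f⁻¹ * s * f * s⁻¹ * s⁻¹ = 1
  t2 : t * t = 1
  d3 : d * d * d = 1
  td : t * d * t * d * t * d = 1
  ds : d * s * d⁻¹ * s⁻¹ = 1
  dw : d * w * d⁻¹ * w = 1
  df : d⁻¹ * f * d * f⁻¹ * f⁻¹ * f⁻¹ * f⁻¹ = 1
  ts : t * s * t * s⁻¹ = 1
  tw : t * w * t * w = 1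
  tf : t * f * t * f⁻¹ = 1
  y2 : y * y = 1
  yd : y * d * y * d = 1
  ty : t * y * t * y * t * y = 1
  ys : y * s * y * s⁻¹ = 1
  yw : y * w * y * w = 1

variable {G : Type*} [Group G] {t s w f d y : G}

theorem Pre.ruRels (h : Pre t s w f d y)
    (last : f * s * f⁻¹ * y * f * s * f⁻¹ * y * f * s * f⁻¹ * y * s * s = 1) : RuRels t s w f d y :=
  ⟨h.s4, h.w2, h.f7, h.wf, h.ws, h.h1, h.h2, h.h3, h.t2, h.d3, h.td, h.ds, h.dw, h.df, h.ts, h.tw, h.tf, h.y2, h.yd,
    h.ty, h.ys, h.yw, last⟩

/-- the wrong value of `(f s f⁻¹ y)³` forces `y` into the subgroup generated by the other letters -/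
theorem Pre.y_mem (h : Pre t s w f d y)
    (hk : f * s * f⁻¹ * y * f * s * f⁻¹ * y * f * s * f⁻¹ * y = 1) :
    y ∈ Subgroup.closure ({t, s, w, f, d} : Set G) := by
  have key := relIndex_le_of_valid [t, s, s⁻¹, w, f, f⁻¹, d, d⁻¹, y] KillData.inv KillData.lab KillData.fxl
    KillData.rels KillData.valid KillData.tt_ok
    (by
      intro a ha
      have ha' : a < 9 := ha
      interval_cases a
      · exact h.t2
      · exact mul_inv_cancel s
      · exact inv_mul_cancel s
      · exact h.w2
      · exact mul_inv_cancel f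
      · exact inv_mul_cancel f
      · exact mul_inv_cancel d
      · exact inv_mul_cancel d
      · exact h.y2)
    (by
      have e := h
      simp only [KillData.rels, List.forall_mem_cons, List.not_mem_nil, false_imp_iff, implies_true, and_true, wprod, lv,
        List.map_cons, List.map_nil, List.prod_cons, List.prod_nil, mul_one, List.getD_cons_zero, List.getD_cons_succ]
      refine ⟨?_, ?_, ?_, ?_, ?_, ?_, ?_, ?_, ?_, ?_, ?_, ?_, ?_, ?_, ?_, ?_, ?_, ?_, ?_, ?_, ?_, ?_, ?_⟩
      · have := h.s4; simpa only [mul_assoc] using this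
      · have := h.w2; simpa only [mul_assoc] using this
      · have := h.f7; simpa only [mul_assoc] using this
      · have := h.wf; simpa only [mul_assoc] using this
      · have := h.ws; simpa only [mul_assoc] using this
      · have := h.h1; simpa only [mul_assoc] using this
      · have := h.h2; simpa only [mul_assoc] using this
      · have := h.h3; simpa only [mul_assoc] using this
      · have := h.t2; simpa only [mul_assoc] using this
      · have := h.d3; simpa only [mul_assoc] using this
      · have := h.td; simpa only [mul_assoc] using this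
      · have := h.ds; simpa only [mul_assoc] using this
      · have := h.dw; simpa only [mul_assoc] using this
      · have := h.df; simpa only [mul_assoc] using this
      · have := h.ts; simpa only [mul_assoc] using this
      · have := h.tw; simpa only [mul_assoc] using this
      · have := h.tf; simpa only [mul_assoc] using this
      · have := h.y2; simpa only [mul_assoc] using this
      · have := h.yd; simpa only [mul_assoc] using this
      · have := h.ty; simpa only [mul_assoc] using this
      · have := h.ys; simpa only [mul_assoc] using this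
      · have := h.yw; simpa only [mul_assoc] using this
      · simpa only [mul_assoc] using hk)
    (Subgroup.closure ({t, s, w, f, d} : Set G))
    (by
      intro a ha
      have hs : ∀ x ∈ ({t, s, w, f, d} : Set G), x ∈ Subgroup.closure ({t, s, w, f, d} : Set G) :=
        fun x hx => Subgroup.subset_closure hx
      have ha' : a = 0 ∨ a = 1 ∨ a = 3 ∨ a = 4 ∨ a = 6 := by
        simpa [KillData.fxl] using ha
      rcases ha' with rfl | rfl | rfl | rfl | rfl
      · exact hs t (by simp)
      · exact hs s (by simp)
      · exact hs w (by simp)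
      · exact hs f (by simp)
      · exact hs d (by simp))
    {y}
    (by
      intro x hx
      rw [Set.mem_singleton_iff] at hx
      subst hx
      exact ⟨8, by norm_num, rfl⟩)
  have h1 : (Subgroup.closure ({t, s, w, f, d} : Set G)).relIndex (Subgroup.closure {y}) = 1 := by
    have := key.1
    have := key.2
    omega
  rw [Subgroup.relIndex_eq_one] at h1
  exact h1 (Subgroup.subset_closure rfl)

/-- conclusion in a group where `t` lies in an abelian subgroup `V` normalised by `t, s, w, f, d` -/
theorem Pre.t_eq_one (h : Pre t s w f d y)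
    (hk : f * s * f⁻¹ * y * f * s * f⁻¹ * y * f * s * f⁻¹ * y = 1) (V : Subgroup G)
    (hV : ∀ a ∈ V, ∀ b ∈ V, a * b = b * a) (ht : t ∈ V)
    (hs : s ∈ Subgroup.normalizer (V : Set G)) (hw : w ∈ Subgroup.normalizer (V : Set G))
    (hf : f ∈ Subgroup.normalizer (V : Set G)) (hd : d ∈ Subgroup.normalizer (V : Set G)) : t = 1 := by
  have hy := h.y_mem hk
  have hle : Subgroup.closure ({t, s, w, f, d} : Set G) ≤ Subgroup.normalizer (V : Set G) := by
    rw [Subgroup.closure_le]
    rintro x (rfl | rfl | rfl | rfl | rfl)
    · exact Subgroup.le_normalizer ht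
    · exact hs
    · exact hw
    · exact hf
    · exact hd
  have hyN := hle hy
  have hyi : y⁻¹ = y := inv_eq_of_mul_eq_one_right h.y2
  have hty : y * t * y ∈ V := by
    have := (Subgroup.mem_normalizer_iff.1 hyN t).1 ht
    rwa [hyi] at this
  have h1 : t * (y * t * y) * t * y = 1 := by
    have := h.ty
    calc t * (y * t * y) * t * y = t * y * t * y * t * y := by group
      _ = 1 := this
  have hyV : y ∈ V := by
    have h2 : y = (t * (y * t * y) * t)⁻¹ := (inv_eq_of_mul_eq_one_right h1).symm
    rw [h2]
    exact inv_mem (mul_mem (mul_mem ht hty) ht)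
  have hc := hV t ht y hyV
  have h2 : t * y = 1 := by
    have h3 : t * y * t * y = 1 := by
      calc t * y * t * y = t * (y * t) * y := by group
        _ = t * (t * y) * y := by rw [hc]
        _ = (t * t) * (y * y) := by group
        _ = 1 := by rw [h.t2, h.y2, one_mul]
    have h4 := h.ty
    rw [h3, one_mul] at h4
    exact h4
  have h3 : y = t := by
    have : t * y = t * t := by rw [h2, h.t2]
    exact mul_left_cancel this
  have h4 : t * d * t * d = 1 := by
    have := h.yd
    rwa [h3] at this
  have h5 : t * d = 1 := by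
    have := h.td
    rwa [h4, one_mul] at this
  have h6 : d = t := by
    have : t * d = t * t := by rw [h5, h.t2]
    exact mul_left_cancel this
  have h7 := h.d3
  rw [h6, h.t2, one_mul] at h7
  exact h7

end Cfsg.Agent.RuE.Kill
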