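import Cfsg.Agent.RuE.Letters
import Cfsg.Agent.RuE.Kill
import Cfsg.Agent.RuD.RelsX

/-!
# The 24 relations of the Rudvalis group hold in `G`
-/

set_option autoImplicit false

namespace Cfsg.Agent.RuE.Final

open Cfsg.Agent.RuB Cfsg.Agent.RuE.Hyp Cfsg.Agent.RuE.OneRel Cfsg.Agent.RuE.Letters

variable {G : Type*} [Group G] {C : Core G} {σ y : G}

theorem y_s (hY : YHyp C y) : y * C.U 1 1 = C.U 1 1 * y := by
  have h2 : C.U 1 1 = (C.U 1 0)⁻¹ := by rw [← s_inv, inv_inv]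
  rw [h2, mul_inv_eq_iff_eq_mul, mul_assoc, hY.yU, inv_mul_cancel_left]

theorem pre (hS : SHyp C σ) (hY : YHyp C y) (hys : y * σ * (y * σ) = 1) :
    Kill.Pre (C.v (1, 0)) (C.U 1 1) (C.R.w : G) (C.dk k0) σ y where
  s4 := by
    have h1 : C.U 1 1 * C.U 1 1 * C.U 1 1 * C.U 1 1 = (C.U 1 1 * C.U 1 1) * (C.U 1 1 * C.U 1 1) := by group
    rw [h1, s_sq, C.z_sq]
  w2 := w_sq C
  f7 := f7
  wf := rel_wf
  ws := rel_ws hS
  h1 := rel_h1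
  h2 := rel_h2
  h3 := rel_h3
  t2 := C.v_sq _
  d3 := hS.s3
  td := rel_td hS
  ds := by
    rw [hS.sU]
    have : (1 : K8) ^ 2 = 1 := one_pow 2
    rw [this, mul_inv_cancel]
  dw := by rw [hS.sw, w_sq]
  df := rel_df hS
  ts := by rw [C.v_U_comm, mul_assoc (C.U 1 1), C.v_sq, mul_one, mul_inv_cancel]
  tw := by
    have h1 := C.v_comm (1, 0) _ (w_mem C)
    rw [h1, mul_assoc (C.R.w : G), C.v_sq, mul_one, w_sq]
  tf := by rw [← C.dk_v_comm, mul_assoc (C.dk k0), C.v_sq, mul_one, mul_inv_cancel]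
  y2 := hY.y2
  yd := by rw [← hys]; group
  ty := by rw [← hY.yv]; group
  ys := by rw [y_s hY, mul_assoc (C.U 1 1), hY.y2, mul_one, mul_inv_cancel]
  yw := by rw [hY.yw, mul_assoc (C.R.w : G), hY.y2, mul_one, w_sq]

/-- the four-group as a subgroup -/
def VV (C : Core G) : Subgroup G where
  carrier := {x | ∃ a, x = C.v a}
  mul_mem' := by
    rintro _ _ ⟨a, rfl⟩ ⟨b, rfl⟩
    exact ⟨a + b, (C.v_add a b).symm⟩
  one_mem' := ⟨0, C.v_zero.symm⟩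
  inv_mem' := by
    rintro _ ⟨a, rfl⟩
    exact ⟨a, C.v_inv a⟩

theorem VV_comm : ∀ a ∈ VV C, ∀ b ∈ VV C, a * b = b * a := by
  rintro _ ⟨a, rfl⟩ _ ⟨b, rfl⟩
  exact C.v_v_comm a b

theorem mem_norm_of {g : G} (h : ∀ a, ∃ b, g * C.v a * g⁻¹ = C.v b) (h' : ∀ a, ∃ b, g⁻¹ * C.v a * g = C.v b) :
    g ∈ Subgroup.normalizer (VV C : Set G) := by
  rw [Subgroup.mem_normalizer_iff]
  intro x
  constructor
  · rintro ⟨a, rfl⟩
    exact h a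
  · rintro ⟨a, ha⟩
    obtain ⟨b, hb⟩ := h' a
    refine ⟨b, ?_⟩
    rw [← hb, ← ha]
    group

theorem mem_norm_of_comm {g : G} (h : ∀ a, C.v a * g = g * C.v a) : g ∈ Subgroup.normalizer (VV C : Set G) := by
  refine mem_norm_of (fun a => ⟨a, ?_⟩) (fun a => ⟨a, ?_⟩)
  · rw [← h, mul_inv_cancel_right]
  · rw [mul_assoc, h, inv_mul_cancel_left]

theorem v_ne_one : C.v (1, 0) ≠ 1 := fun h => by
  have h1 := C.v_eq_one h
  exact absurd h1 (by decide)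

section

variable (hS : SHyp C σ) (hY : YHyp C y) (hys : y * σ * (y * σ) = 1) (K : Coord C) (hν : K.ν = ⟨5⟩) (hμ : K.μ = ⟨7⟩)
  (hcz : ∀ g : G, (∀ b, g * C.z b = C.z b * g) → g ∈ C.QQ)

include hS hY hys in
theorem cube_ne_one : (q C * y) * (q C * y) * (q C * y) ≠ 1 := by
  intro h1
  have hP := pre hS hY hys
  refine v_ne_one (C := C) (hP.t_eq_one ?_ (VV C) VV_comm ⟨_, rfl⟩ (mem_norm_of_comm fun a => C.v_U_comm _ _ _)
    (mem_norm_of_comm fun a => C.v_comm a _ (w_mem C)) (mem_norm_of_comm fun a => (C.dk_v_comm _ _).symm)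
    (mem_norm_of (fun a => ⟨_, hS.sv a⟩) fun a => ?_))
  · have h2 : C.dk k0 * C.U 1 1 * (C.dk k0)⁻¹ * y * C.dk k0 * C.U 1 1 * (C.dk k0)⁻¹ * y * C.dk k0 * C.U 1 1 *
        (C.dk k0)⁻¹ * y = ((C.dk k0 * C.U 1 1 * (C.dk k0)⁻¹) * y) * ((C.dk k0 * C.U 1 1 * (C.dk k0)⁻¹) * y) *
        ((C.dk k0 * C.U 1 1 * (C.dk k0)⁻¹) * y) := by group
    rw [h2, f_conj_s, h1]
  · have h3 : σ⁻¹ = σ * σ := by
      rw [inv_eq_iff_mul_eq_one, ← mul_assoc]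
      exact hS.s3
    have h4 : σ⁻¹ * C.v a * σ = σ * (σ * C.v a * σ⁻¹) * σ⁻¹ := by
      calc σ⁻¹ * C.v a * σ = σ⁻¹ * C.v a * (σ⁻¹)⁻¹ := by rw [inv_inv]
        _ = (σ * σ) * C.v a * (σ * σ)⁻¹ := by rw [h3]
        _ = _ := by group
    rw [h4, hS.sv, hS.sv]
    exact ⟨_, rfl⟩

include hS hY hys hν hμ hcz in
theorem cube_eq : (q C * y) * (q C * y) * (q C * y) = C.z 1 := by
  rcases cube hY K hν hμ hcz with h | h
  · exact absurd h (cube_ne_one hS hY hys)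
  · exact h

include hY hν hμ in
/-- the commutator relation -/
theorem xt : X C y (K8.al ^ 5) * C.v (1, 0) * X C y (K8.al ^ 5) * C.v (1, 0) = C.z (K8.al ^ 5) := by
  have h1 := X_act hY K (K8.al ^ 5)
  rw [pi5 hY K hν hμ] at h1
  calc X C y (K8.al ^ 5) * C.v (1, 0) * X C y (K8.al ^ 5) * C.v (1, 0) =
      X C y (K8.al ^ 5) * (C.v (1, 0) * X C y (K8.al ^ 5) * C.v (1, 0)) := by group
    _ = (X C y (K8.al ^ 5) * X C y (K8.al ^ 5)) * C.z (K8.al ^ 5) := by rw [h1, ← mul_assoc]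
    _ = _ := by rw [X_sq hY, one_mul]

theorem g_eq : (C.dk k0)⁻¹ * C.U 1 1 * C.U 1 1 * C.dk k0 = C.z (K8.al ^ 5) := by
  have h1 : (C.dk k0)⁻¹ * C.U 1 1 * C.U 1 1 * C.dk k0 = (C.dk k0)⁻¹ * (C.U 1 1 * C.U 1 1) * C.dk k0 := by group
  rw [h1, s_sq, C.z_eq, f_U, mul_one, mul_zero]
  rfl

include hS hY hys hν hμ hcz in
/-- all relations -/
theorem ruRelsX : Cfsg.Agent.RuD.Rels.RuRelsX (C.v (1, 0)) (C.U 1 1) (C.R.w : G) (C.dk k0) σ y where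
  toRuRels := ruRels hS hY hys (cube_eq hS hY hys K hν hμ hcz)
  xt := by
    have h1 := xt hY K hν hμ
    unfold X at h1
    have h2 : y * (C.dk k0)⁻¹ * C.U 1 1 * C.U 1 1 * C.dk k0 * y * C.v (1, 0) * y * (C.dk k0)⁻¹ * C.U 1 1 * C.U 1 1 *
        C.dk k0 * y * C.v (1, 0) * (C.dk k0)⁻¹ * C.U 1 1 * C.U 1 1 * C.dk k0 =
        (y * ((C.dk k0)⁻¹ * C.U 1 1 * C.U 1 1 * C.dk k0) * y * C.v (1, 0) *
          (y * ((C.dk k0)⁻¹ * C.U 1 1 * C.U 1 1 * C.dk k0) * y) * C.v (1, 0)) *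
        ((C.dk k0)⁻¹ * C.U 1 1 * C.U 1 1 * C.dk k0) := by group
    rw [h2, g_eq, h1, C.z_sq]

end

end Cfsg.Agent.RuE.Final
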