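import Cfsg.Agent.RuE.OneRel

/-!
# The letters `t, s, w, f, d, y` of the Rudvalis presentation in `Core` coordinates

`t = v (1, 0)`, `s = U 1 1`, `w`, `f = dk (α⁴)`, `d = σ`. All relations of `RuRels` follow from the hypotheses `SHyp`,
`YHyp` and `(q y)³ = z 1`.
-/

set_option autoImplicit false

namespace Cfsg.Agent.RuE.Letters

open Cfsg.Agent.RuB Cfsg.Agent.RuE.Hyp Cfsg.Agent.RuE.OneRel

variable {G : Type*} [Group G] {C : Core G} {σ y : G}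

/-- the torus parameter of `f` -/
def k0 : K8ˣ := Units.mk0 (K8.al ^ 4) (by decide +kernel)

theorem k0_val : (k0 : K8) = K8.al ^ 4 := rfl

theorem k0_pow7 : k0 ^ 7 = 1 := by
  ext
  rw [Units.val_pow_eq_pow_val, k0_val, Units.val_one]
  decide +kernel

theorem k0_pow8 : (k0 ^ 4) ^ 2 = k0 := by
  rw [← pow_mul]
  calc k0 ^ (4 * 2) = k0 ^ 7 * k0 := by rw [← pow_succ]
    _ = k0 := by rw [k0_pow7, one_mul]

theorem dk_mul' (C : Core G) (k l : K8ˣ) : C.dk k * C.dk l = C.dk (k * l) := Core.dk_mul k l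

theorem f4 : C.dk (k0 ^ 4) = C.dk k0 * C.dk k0 * C.dk k0 * C.dk k0 := by
  rw [dk_mul', dk_mul', dk_mul']
  have h : k0 * k0 * k0 * k0 = k0 ^ 4 := by
    rw [pow_succ, pow_succ, pow_succ, pow_one]
  rw [h]

theorem f7 : C.dk k0 * C.dk k0 * C.dk k0 * C.dk k0 * C.dk k0 * C.dk k0 * C.dk k0 = 1 := by
  have h : k0 * k0 * k0 * k0 * k0 * k0 * k0 = 1 := by
    rw [← k0_pow7, pow_succ, pow_succ, pow_succ, pow_succ, pow_succ, pow_succ, pow_one]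
  rw [dk_mul', dk_mul', dk_mul', dk_mul', dk_mul', dk_mul', h]
  exact Core.dk_one

/-- moving `f` to the left -/
theorem U_f (a b : K8) : C.U a b * C.dk k0 = C.dk k0 * C.U (K8.al * a) (K8.al ^ 5 * b) := by
  have h := C.dk_conj k0 (K8.al * a) (K8.al ^ 5 * b)
  rw [mul_inv_eq_iff_eq_mul, k0_val] at h
  rw [h]
  have h1 : ∀ a : K8, K8.al * a * (K8.al ^ 4) ^ 5 = a := by decide +kernel
  have h2 : ∀ a : K8, K8.al ^ 5 * a * (K8.al ^ 4) ^ 4 = a := by decide +kernel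
  rw [h1, h2]

theorem f_U (a b : K8) : (C.dk k0)⁻¹ * C.U a b * C.dk k0 = C.U (K8.al * a) (K8.al ^ 5 * b) := by
  rw [mul_assoc, U_f, inv_mul_cancel_left]

theorem f_conj_s : C.dk k0 * C.U 1 1 * (C.dk k0)⁻¹ = q C := by
  rw [C.dk_conj, k0_val]
  have h1 : (1 : K8) * (K8.al ^ 4) ^ 5 = K8.al ^ 6 := by decide +kernel
  have h2 : (1 : K8) * (K8.al ^ 4) ^ 4 = K8.al ^ 2 := by decide +kernel
  rw [h1, h2]
  rfl

theorem s_inv : (C.U 1 1)⁻¹ = C.U 1 0 := by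
  rw [C.U_inv]
  have : (1 : K8) + 1 ^ 5 = 0 := by decide +kernel
  rw [this]

theorem s_sq : C.U 1 1 * C.U 1 1 = C.z 1 := by rw [C.U_sq, one_pow]

theorem s_inv_sq : C.U 1 0 * C.U 1 0 = C.z 1 := by rw [C.U_sq, one_pow]

theorem w_sq (C : Core G) : (C.R.w : G) * (C.R.w : G) = 1 := congrArg Subtype.val C.R.w_mul_w

theorem w_dk (C : Core G) (k : K8ˣ) : (C.R.w : G) * C.dk k = C.dk k⁻¹ * (C.R.w : G) :=
  congrArg Subtype.val (C.R.w_mul_d k)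

theorem w_mem (C : Core G) : (C.R.w : G) ∈ C.L := C.R.w.2

theorem U_eq_one {a b : K8} (ha : a = 0) (hb : b = 0) : C.U a b = 1 := by
  rw [ha, hb, C.U_zero]

theorem rel_wf : (C.R.w : G) * C.dk k0 * (C.R.w : G) * C.dk k0 = 1 := by
  rw [w_dk, ← Core.dk_inv]
  calc (C.dk k0)⁻¹ * (C.R.w : G) * (C.R.w : G) * C.dk k0 = (C.dk k0)⁻¹ * ((C.R.w : G) * (C.R.w : G)) * C.dk k0 := by group
    _ = 1 := by rw [w_sq]; group

theorem rel_ws (h : SHyp C σ) : (C.U 1 1)⁻¹ * (C.U 1 1)⁻¹ * (C.R.w : G) * C.U 1 1 * (C.R.w : G) * (C.U 1 1)⁻¹ *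
    (C.R.w : G) = 1 := by
  have h1 := h.hw
  rw [← s_inv, inv_inv] at h1
  calc (C.U 1 1)⁻¹ * (C.U 1 1)⁻¹ * (C.R.w : G) * C.U 1 1 * (C.R.w : G) * (C.U 1 1)⁻¹ * (C.R.w : G)
      = ((C.U 1 1)⁻¹ * (C.U 1 1)⁻¹) * ((C.R.w : G) * C.U 1 1 * (C.R.w : G) * (C.U 1 1)⁻¹) * (C.R.w : G) := by group
    _ = (C.z 1 * C.z 1) * ((C.R.w : G) * (C.R.w : G)) := by rw [h1, s_inv, s_inv_sq]; group
    _ = 1 := by rw [C.z_sq, w_sq, one_mul]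

theorem rel_h1 : (C.dk k0)⁻¹ * (C.dk k0)⁻¹ * (C.dk k0)⁻¹ * (C.U 1 1)⁻¹ * C.dk k0 * C.dk k0 * (C.U 1 1)⁻¹ * C.dk k0 *
    (C.U 1 1)⁻¹ = 1 := by
  rw [s_inv]
  set f := C.dk k0 with hf
  have hU : ∀ a b, C.U a b * f = f * C.U (K8.al * a) (K8.al ^ 5 * b) := U_f
  have h1 : C.U 1 0 * f = f * C.U (K8.al * 1) (K8.al ^ 5 * 0) := hU _ _
  calc f⁻¹ * f⁻¹ * f⁻¹ * C.U 1 0 * f * f * C.U 1 0 * f * C.U 1 0
      = f⁻¹ * f⁻¹ * f⁻¹ * (C.U 1 0 * f) * f * (C.U 1 0 * f) * C.U 1 0 := by group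
    _ = f⁻¹ * f⁻¹ * (C.U (K8.al * 1) (K8.al ^ 5 * 0) * f) * f * C.U (K8.al * 1) (K8.al ^ 5 * 0) * C.U 1 0 := by
        rw [h1]; group
    _ = f⁻¹ * (C.U (K8.al * (K8.al * 1)) (K8.al ^ 5 * (K8.al ^ 5 * 0)) * f) * C.U (K8.al * 1) (K8.al ^ 5 * 0) *
        C.U 1 0 := by rw [hU]; group
    _ = C.U (K8.al * (K8.al * (K8.al * 1))) (K8.al ^ 5 * (K8.al ^ 5 * (K8.al ^ 5 * 0))) *
        C.U (K8.al * 1) (K8.al ^ 5 * 0) * C.U 1 0 := by rw [hU]; group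
    _ = 1 := by
        rw [C.U_mul, C.U_mul]
        exact U_eq_one (by decide +kernel) (by decide +kernel)

theorem rel_h2 : (C.dk k0)⁻¹ * (C.U 1 1)⁻¹ * (C.U 1 1)⁻¹ * C.dk k0 * (C.U 1 1)⁻¹ * (C.dk k0)⁻¹ * (C.U 1 1)⁻¹ *
    (C.U 1 1)⁻¹ * C.dk k0 * C.U 1 1 = 1 := by
  rw [s_inv]
  calc (C.dk k0)⁻¹ * C.U 1 0 * C.U 1 0 * C.dk k0 * C.U 1 0 * (C.dk k0)⁻¹ * C.U 1 0 * C.U 1 0 * C.dk k0 * C.U 1 1
      = ((C.dk k0)⁻¹ * (C.U 1 0 * C.U 1 0) * C.dk k0) * C.U 1 0 * ((C.dk k0)⁻¹ * (C.U 1 0 * C.U 1 0) * C.dk k0) *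
        C.U 1 1 := by group
    _ = 1 := by
        rw [C.U_mul, f_U, C.U_mul, C.U_mul, C.U_mul]
        exact U_eq_one (by decide +kernel) (by decide +kernel)

theorem rel_h3 : (C.dk k0)⁻¹ * (C.U 1 1)⁻¹ * C.dk k0 * (C.U 1 1)⁻¹ * (C.U 1 1)⁻¹ * (C.dk k0)⁻¹ * C.U 1 1 *
    C.dk k0 * (C.U 1 1)⁻¹ * (C.U 1 1)⁻¹ = 1 := by
  rw [s_inv]
  calc (C.dk k0)⁻¹ * C.U 1 0 * C.dk k0 * C.U 1 0 * C.U 1 0 * (C.dk k0)⁻¹ * C.U 1 1 * C.dk k0 * C.U 1 0 * C.U 1 0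
      = ((C.dk k0)⁻¹ * C.U 1 0 * C.dk k0) * C.U 1 0 * C.U 1 0 * ((C.dk k0)⁻¹ * C.U 1 1 * C.dk k0) * C.U 1 0 *
        C.U 1 0 := by group
    _ = 1 := by
        rw [f_U, f_U, C.U_mul, C.U_mul, C.U_mul, C.U_mul, C.U_mul]
        exact U_eq_one (by decide +kernel) (by decide +kernel)

theorem rel_td (h : SHyp C σ) : C.v (1, 0) * σ * C.v (1, 0) * σ * C.v (1, 0) * σ = 1 := by
  have h1 := h.sv (1, 0)
  have h2 := h.sv (0, 1)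
  have e1 : ((1, 0) : A4).1 + ((1, 0) : A4).2 = 1 := by decide
  have e2 : ((0, 1) : A4).1 + ((0, 1) : A4).2 = 1 := by decide
  rw [e1] at h1
  rw [e2] at h2
  change σ * C.v (1, 0) * σ⁻¹ = C.v (0, 1) at h1
  change σ * C.v (0, 1) * σ⁻¹ = C.v (1, 1) at h2
  calc C.v (1, 0) * σ * C.v (1, 0) * σ * C.v (1, 0) * σ
      = C.v (1, 0) * (σ * C.v (1, 0) * σ⁻¹) * (σ * (σ * C.v (1, 0) * σ⁻¹) * σ⁻¹) * (σ * σ * σ) := by group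
    _ = C.v (1, 0) * C.v (0, 1) * C.v (1, 1) := by rw [h1, h2, h.s3, mul_one]
    _ = 1 := by
        rw [← C.v_add, ← C.v_add]
        have : ((1, 0) : A4) + (0, 1) + (1, 1) = 0 := by decide
        rw [this, C.v_zero]

theorem rel_df (h : SHyp C σ) : σ⁻¹ * C.dk k0 * σ * (C.dk k0)⁻¹ * (C.dk k0)⁻¹ * (C.dk k0)⁻¹ * (C.dk k0)⁻¹ = 1 := by
  have h1 := h.sk (k0 ^ 4)
  rw [k0_pow8] at h1
  have h2 := f4 (C := C)
  have h3 : σ⁻¹ * C.dk k0 * σ = C.dk (k0 ^ 4) := by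
    rw [← h1]
    group
  rw [h3, h2]
  group

theorem ruRels (hS : SHyp C σ) (hY : YHyp C y) (hys : y * σ * (y * σ) = 1)
    (hc : (q C * y) * (q C * y) * (q C * y) = C.z 1) :
    Cfsg.Agent.RuD.Rels.RuRels (C.v (1, 0)) (C.U 1 1) (C.R.w : G) (C.dk k0) σ y where
  s4 := by
    have h1 : C.U 1 1 * C.U 1 1 * C.U 1 1 * C.U 1 1 = (C.U 1 1 * C.U 1 1) * (C.U 1 1 * C.U 1 1) := by group
    rw [h1, s_sq, C.z_sq]
  w2 := w_sq C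
  f7 := f7
  wf := rel_wf
  ws := rel_ws hS
  h1 := rel_h1
  h2 := rel_h2
  h3 := rel_h3
  t2 := C.v_sq _
  d3 := hS.s3
  td := rel_td hS
  ds := by
    rw [hS.sU]
    have : (1 : K8) ^ 2 = 1 := one_pow 2
    rw [this, mul_inv_cancel]
  dw := by rw [hS.sw, w_sq]
  df := rel_df hS
  ts := by rw [C.v_U_comm, mul_assoc (C.U 1 1), C.v_sq, mul_one, mul_inv_cancel]
  tw := by
    have h1 := C.v_comm (1, 0) _ (w_mem C)
    rw [h1, mul_assoc (C.R.w : G), C.v_sq, mul_one, w_sq]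
  tf := by rw [← C.dk_v_comm, mul_assoc (C.dk k0), C.v_sq, mul_one, mul_inv_cancel]
  y2 := hY.y2
  yd := by rw [← hys]; group
  ty := by rw [← hY.yv]; group
  ys := by
    have h1 : y * C.U 1 1 = C.U 1 1 * y := by
      have h2 : C.U 1 1 = (C.U 1 0)⁻¹ := by rw [← s_inv, inv_inv]
      rw [h2, mul_inv_eq_iff_eq_mul, mul_assoc, hY.yU, inv_mul_cancel_left]
    rw [h1, mul_assoc (C.U 1 1), hY.y2, mul_one, mul_inv_cancel]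
  yw := by rw [hY.yw, mul_assoc (C.R.w : G), hY.y2, mul_one, w_sq]
  last := by
    rw [f_conj_s]
    have h1 : q C * y * C.dk k0 * C.U 1 1 * (C.dk k0)⁻¹ * y * C.dk k0 * C.U 1 1 * (C.dk k0)⁻¹ * y * C.U 1 1 * C.U 1 1 =
        q C * y * (C.dk k0 * C.U 1 1 * (C.dk k0)⁻¹) * y * (C.dk k0 * C.U 1 1 * (C.dk k0)⁻¹) * y *
        (C.U 1 1 * C.U 1 1) := by group
    rw [h1, f_conj_s, s_sq]
    have h2 : q C * y * q C * y * q C * y = q C * y * (q C * y) * (q C * y) := by group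
    rw [h2, hc, C.z_sq]

end Cfsg.Agent.RuE.Letters
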