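import Cfsg.Agent.RuE.Final

/-!
# The letters generate `V` and `L`
-/

set_option autoImplicit false

namespace Cfsg.Agent.RuE.Gen

open Cfsg.Agent.RuB Cfsg.Agent.RuE.Hyp Cfsg.Agent.RuE.OneRel Cfsg.Agent.RuE.Letters

variable {G : Type*} [Group G] {C : Core G} {σ : G}

theorem exists_pow_k0 (k : K8ˣ) : ∃ i : ℕ, k = k0 ^ i := by
  have h : ∀ a : K8, a ≠ 0 → ∃ i : Fin 7, a = (K8.al ^ 4) ^ i.1 := by decide +kernel
  obtain ⟨i, hi⟩ := h k k.ne_zero
  refine ⟨i.1, ?_⟩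
  ext
  rw [Units.val_pow_eq_pow_val, k0_val]
  exact hi

theorem dk_pow (k : K8ˣ) (i : ℕ) : C.dk (k ^ i) = C.dk k ^ i := by
  induction i with
  | zero => rw [pow_zero, pow_zero]; exact Core.dk_one
  | succ i ih => rw [pow_succ, pow_succ, ← ih, dk_mul']

section

variable {H : Subgroup G} (ht : C.v (1, 0) ∈ H) (hs : C.U 1 1 ∈ H) (hw : (C.R.w : G) ∈ H) (hf : C.dk k0 ∈ H)

include hf in
theorem dk_mem_of (k : K8ˣ) : C.dk k ∈ H := by
  obtain ⟨i, rfl⟩ := exists_pow_k0 k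
  rw [dk_pow]
  exact pow_mem hf i

include hs hf in
theorem z_mem_of (b : K8) : C.z b ∈ H := by
  by_cases hb : b = 0
  · rw [hb, C.z_zero]
    exact one_mem H
  · let k : K8ˣ := Units.mk0 (b ^ 2) (pow_ne_zero _ hb)
    have hk : (k : K8) ^ 4 = b := by
      change (b ^ 2) ^ 4 = b
      rw [← pow_mul]
      exact K8.pow_eight b
    have h1 := C.dk_z k 1
    rw [one_mul, hk] at h1
    rw [← h1, ← s_sq]
    exact mul_mem (mul_mem (dk_mem_of hf k) (mul_mem hs hs)) (inv_mem (dk_mem_of hf k))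

include hs hf in
theorem U_mem_of (a b : K8) : C.U a b ∈ H := by
  have h10 : C.U 1 0 ∈ H := by
    rw [← s_inv]
    exact inv_mem hs
  by_cases ha : a = 0
  · rw [ha]
    exact z_mem_of hs hf b
  · let k : K8ˣ := Units.mk0 (a ^ 3) (pow_ne_zero _ ha)
    have hk : (k : K8) ^ 5 = a := by
      change (a ^ 3) ^ 5 = a
      have h : ∀ a : K8, (a ^ 3) ^ 5 = a := by decide +kernel
      exact h a
    have h1 := C.dk_conj k 1 0
    rw [one_mul, hk, zero_mul] at h1
    rw [C.U_eq, ← h1]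
    exact mul_mem (mul_mem (mul_mem (dk_mem_of hf k) h10) (inv_mem (dk_mem_of hf k))) (z_mem_of hs hf b)

include hs hw hf in
theorem L_le_of : C.L ≤ H := by
  intro l hl
  rcases C.R.bruhat ⟨l, hl⟩ with ⟨a, b, k, h⟩ | ⟨a, b, c, e, k, h⟩
  · have h1 : l = C.U a b * C.dk k := congrArg Subtype.val h
    rw [h1]
    exact mul_mem (U_mem_of hs hf a b) (dk_mem_of hf k)
  · have h1 : l = C.U a b * (C.R.w : G) * (C.U c e * C.dk k) := congrArg Subtype.val h
    rw [h1]
    exact mul_mem (mul_mem (U_mem_of hs hf a b) hw) (mul_mem (U_mem_of hs hf c e) (dk_mem_of hf k))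

include ht in
theorem v_mem_of (hS : SHyp C σ) (hd : σ ∈ H) (a : A4) : C.v a ∈ H := by
  have h01 : C.v (0, 1) ∈ H := by
    have h1 := hS.sv (1, 0)
    have e1 : ((1, 0) : A4).1 + ((1, 0) : A4).2 = 1 := by decide
    rw [e1] at h1
    change σ * C.v (1, 0) * σ⁻¹ = C.v (0, 1) at h1
    rw [← h1]
    exact mul_mem (mul_mem hd ht) (inv_mem hd)
  have hall : ∀ a : A4, a = 0 ∨ a = (1, 0) ∨ a = (0, 1) ∨ a = (1, 0) + (0, 1) := by decide
  rcases hall a with rfl | rfl | rfl | rfl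
  · rw [C.v_zero]
    exact one_mem H
  · exact ht
  · exact h01
  · rw [C.v_add]
    exact mul_mem ht h01

end

/-- the subgroup generated by the letters contains `V` and `L` -/
theorem closure_le (hS : SHyp C σ) : (∀ a, C.v a ∈ Subgroup.closure ({C.v (1, 0), C.U 1 1, (C.R.w : G), C.dk k0, σ} : Set G)) ∧
    C.L ≤ Subgroup.closure ({C.v (1, 0), C.U 1 1, (C.R.w : G), C.dk k0, σ} : Set G) := by
  have hm : ∀ x ∈ ({C.v (1, 0), C.U 1 1, (C.R.w : G), C.dk k0, σ} : Set G),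
      x ∈ Subgroup.closure ({C.v (1, 0), C.U 1 1, (C.R.w : G), C.dk k0, σ} : Set G) :=
    fun x hx => Subgroup.subset_closure hx
  refine ⟨fun a => v_mem_of (hm _ (by simp)) hS (hm _ (by simp)) a,
    L_le_of (hm _ (by simp)) (hm _ (by simp)) (hm _ (by simp))⟩

/-- the same for the subgroup generated by all six letters -/
theorem closure_le' (hS : SHyp C σ) (y : G) :
    (∀ a, C.v a ∈ Subgroup.closure ({C.v (1, 0), C.U 1 1, (C.R.w : G), C.dk k0, σ, y} : Set G)) ∧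
    C.L ≤ Subgroup.closure ({C.v (1, 0), C.U 1 1, (C.R.w : G), C.dk k0, σ, y} : Set G) := by
  have hle : Subgroup.closure ({C.v (1, 0), C.U 1 1, (C.R.w : G), C.dk k0, σ} : Set G) ≤
      Subgroup.closure ({C.v (1, 0), C.U 1 1, (C.R.w : G), C.dk k0, σ, y} : Set G) := by
    refine Subgroup.closure_mono ?_
    rintro x (h | h | h | h | h)
    · exact Or.inl h
    · exact Or.inr (Or.inl h)
    · exact Or.inr (Or.inr (Or.inl h))
    · exact Or.inr (Or.inr (Or.inr (Or.inl h)))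
    · exact Or.inr (Or.inr (Or.inr (Or.inr (Or.inl h))))
  exact ⟨fun a => hle ((closure_le hS).1 a), (closure_le hS).2.trans hle⟩

end Cfsg.Agent.RuE.Gen
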