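import Cfsg.Agent.RuE.Gen
import Cfsg.Agent.Ru127.Y

/-!
# The 24 relations hold in every finite group with a `Core`
-/

set_option autoImplicit false

namespace Cfsg.Agent.RuE.Apply

open Cfsg.Agent.RuB Cfsg.Agent.RuE.Hyp Cfsg.Agent.RuE.Letters

variable {G : Type*} [Group G] {C : Core G} {σ y : G}

theorem rho_eq : ∀ a : A4, Cfsg.Agent.Ru127.Sg.rho (a.2, a.1 + a.2) = a := by decide

theorem sHyp_of (hr : Cfsg.Agent.Ru127.Sg.Rel C) (h : Cfsg.Agent.Ru127.Sg.IsSigma C σ) : SHyp C σ⁻¹ where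
  hw := by
    have h1 : (C.R.w : G) * C.U 1 1 * (C.R.w : G) * (C.U 1 1)⁻¹ = C.z 1 * (C.R.w : G) := hr
    rw [← s_inv, inv_inv]
    exact h1
  s3 := by
    have h1 := congrArg (fun x => x⁻¹) h.cube
    simp only [inv_one] at h1
    rw [← h1]
    group
  sv := by
    intro a
    have h1 := h.v (a.2, a.1 + a.2)
    have h2 : Cfsg.Agent.Ru127.Sg.rho (a.2, a.1 + a.2) = a := rho_eq a
    rw [h2] at h1
    rw [← h1]
    group
  sU := by
    intro a b
    have h1 := h.U (a ^ 2) (b ^ 2)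
    have h2 : ∀ x : K8, (x ^ 2) ^ 4 = x := by decide +kernel
    rw [h2, h2] at h1
    rw [← h1]
    group
  sk := by
    intro k
    have h1 := h.dk (k ^ 2)
    have h2 : (k ^ 2) ^ 4 = k := by
      ext
      rw [Units.val_pow_eq_pow_val, Units.val_pow_eq_pow_val, ← pow_mul]
      exact K8.pow_eight k
    rw [h2] at h1
    rw [← h1]
    group
  sw := by
    have h1 : σ * (C.R.w : G) = (C.R.w : G) * σ := h.w
    rw [inv_inv, mul_assoc, ← h1, inv_mul_cancel_left]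

theorem yHyp_of (h : Cfsg.Agent.Ru127.Sg.IsY C σ y) : YHyp C y := by
  have hyi : y⁻¹ = y := inv_eq_of_mul_eq_one_right h.sq
  refine ⟨h.sq, ?_, ?_, h.w, ?_, ?_⟩
  · rw [← h.tv]
    group
  · have h1 : y * C.U 1 1 = C.U 1 1 * y := h.s
    rw [← s_inv, mul_inv_eq_iff_eq_mul, mul_assoc, h1, inv_mul_cancel_left]
  · intro b
    have := h.Q b
    rwa [hyi] at this
  · intro b b' hb
    refine h.inter b b' ?_
    rw [hyi]
    exact hb

theorem ys_of (h : Cfsg.Agent.Ru127.Sg.IsY C σ y) : y * σ⁻¹ * (y * σ⁻¹) = 1 := by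
  have h1 := h.sig
  have h2 : σ⁻¹ = y * σ * y := by
    rw [inv_eq_iff_mul_eq_one]
    calc σ * (y * σ * y) = (y * y) * (σ * y * σ * y) := by rw [h.sq, one_mul]; group
      _ = y * (y * σ * y * σ) * y := by group
      _ = 1 := by rw [h1, mul_one, h.sq]
  rw [h2]
  calc y * (y * σ * y) * (y * (y * σ * y)) = (y * y) * σ * (y * y) * (y * σ * y) := by group
    _ = σ * (y * σ * y) := by rw [h.sq]; group
    _ = 1 := by rw [← h2, mul_inv_cancel]

/-- **The relations**: every finite group with a `Core` contains elements satisfying the 24 relations. -/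
theorem exists_ruRelsX [Finite G] (C : Core G) (hr : Cfsg.Agent.Ru127.Sg.Rel C) :
    ∃ d y : G, Cfsg.Agent.RuD.Rels.RuRelsX (C.v (1, 0)) (C.U 1 1) (C.R.w : G) (C.dk k0) d y ∧
      (∀ a, C.v a ∈ Subgroup.closure ({C.v (1, 0), C.U 1 1, (C.R.w : G), C.dk k0, d} : Set G)) ∧
      C.L ≤ Subgroup.closure ({C.v (1, 0), C.U 1 1, (C.R.w : G), C.dk k0, d} : Set G) ∧
      (∀ a, C.v a ∈ Subgroup.closure ({C.v (1, 0), C.U 1 1, (C.R.w : G), C.dk k0, d, y} : Set G)) ∧
      C.L ≤ Subgroup.closure ({C.v (1, 0), C.U 1 1, (C.R.w : G), C.dk k0, d, y} : Set G) := by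
  obtain ⟨K, hν, hμ, -, hcz⟩ := Cfsg.Agent.Ru127.Sg.exists_localData C
  obtain ⟨σ, y, hσ, hy⟩ := Cfsg.Agent.Ru127.Sg.exists_letters C hr
  have hS := sHyp_of hr hσ
  have hY := yHyp_of hy
  exact ⟨σ⁻¹, y, Final.ruRelsX hS hY (ys_of hy) K hν hμ hcz, (Gen.closure_le hS).1, (Gen.closure_le hS).2,
    (Gen.closure_le' hS y).1, (Gen.closure_le' hS y).2⟩

end Cfsg.Agent.RuE.Apply
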