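import Cfsg.Agent.RuB.Coord
import Cfsg.Agent.RuD.Rels

/-!
# The glue for the Rudvalis group: hypotheses

`YHyp C σ y`: the elements `σ` (of order 3, acting on `V × L` as the field automorphism) and `y` (the involution
centralising `5 : 4` and inverting `σ`, with `Z ^ y ≤ Q`).
-/

set_option autoImplicit false

namespace Cfsg.Agent.RuE.Hyp

open Cfsg.Agent.RuB

/-- the hypotheses on `σ` -/
structure SHyp {G : Type*} [Group G] (C : Core G) (σ : G) : Prop where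
  hw : (C.R.w : G) * (C.U 1 0)⁻¹ * (C.R.w : G) * C.U 1 0 = C.z 1 * (C.R.w : G)
  s3 : σ * σ * σ = 1
  sv : ∀ a : A4, σ * C.v a * σ⁻¹ = C.v (a.2, a.1 + a.2)
  sU : ∀ a b : K8, σ * C.U a b * σ⁻¹ = C.U (a ^ 2) (b ^ 2)
  sk : ∀ k : K8ˣ, σ * C.dk k * σ⁻¹ = C.dk (k ^ 2)
  sw : σ * (C.R.w : G) * σ⁻¹ = (C.R.w : G)

/-- the hypotheses on `y` -/
structure YHyp {G : Type*} [Group G] (C : Core G) (y : G) : Prop where
  y2 : y * y = 1
  yv : (C.v (1, 0) * y) * (C.v (1, 0) * y) * (C.v (1, 0) * y) = 1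
  yU : y * C.U 1 0 = C.U 1 0 * y
  yw : y * (C.R.w : G) = (C.R.w : G) * y
  yz : ∀ b, y * C.z b * y ∈ C.QQ
  yzz : ∀ b b', y * C.z b * y = C.z b' → b = 0 ∨ b = 1

end Cfsg.Agent.RuE.Hyp
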