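import Cfsg.Agent.RuE.Hyp

/-!
# The key relation of the Rudvalis group, up to one case

Let `q = U (α⁶) (α²)`. Then `(q y)³ ∈ {1, z 1}`.

The elements `X e = y * z e * y` of `Q` have known coordinates; `m = v₁ q` normalises `Z ^ y`, so `k = y m y`
normalises `Z`, and `t₁ = k⁻¹ v₁ k = y q⁻¹ y q y` is an element of `Q`. Its coordinates are forced by
commutators: `t₁ = q * X (α²) * ζ` with `ζ ∈ Z`. Hence `ζ = (q y)⁻³` commutes with `q` and `q y`, hence with `y`.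
-/

set_option autoImplicit false

namespace Cfsg.Agent.RuE.OneRel

open Cfsg.Agent.RuB Cfsg.Agent.RuE.Hyp

variable {G : Type*} [Group G] {C : Core G} {y : G}

/-- `Z ^ y` -/
def X (C : Core G) (y : G) (b : K8) : G := y * C.z b * y

section

variable (h : YHyp C y)

include h

theorem y_inv : y⁻¹ = y := inv_eq_of_mul_eq_one_right h.y2

theorem yy (x : G) : y * (y * x) = x := by rw [← mul_assoc, h.y2, one_mul]

theorem X_add (a b : K8) : X C y (a + b) = X C y a * X C y b := by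
  unfold X
  rw [C.z_add]
  calc y * (C.z a * C.z b) * y = y * C.z a * (y * y) * (C.z b * y) := by rw [h.y2]; group
    _ = _ := by group

theorem X_one : X C y 1 = C.z 1 := by
  unfold X
  have h1 : C.z 1 = C.U 1 0 * C.U 1 0 := by
    rw [C.U_sq, one_pow]
  rw [h1]
  calc y * (C.U 1 0 * C.U 1 0) * y = (y * C.U 1 0) * C.U 1 0 * y := by group
    _ = (C.U 1 0 * y) * C.U 1 0 * y := by rw [h.yU]
    _ = C.U 1 0 * (y * C.U 1 0) * y := by group
    _ = C.U 1 0 * (C.U 1 0 * y) * y := by rw [h.yU]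
    _ = C.U 1 0 * C.U 1 0 * (y * y) := by group
    _ = _ := by rw [h.y2, mul_one]

theorem X_sq (b : K8) : X C y b * X C y b = 1 := by
  rw [← X_add h, K8.add_self]
  unfold X
  rw [C.z_zero, mul_one, h.y2]

theorem yX (b : K8) : y * X C y b * y = C.z b := by
  unfold X
  calc y * (y * C.z b * y) * y = (y * y) * C.z b * (y * y) := by group
    _ = _ := by rw [h.y2, one_mul, mul_one]

theorem X_comm_U (b : K8) : X C y b * C.U 1 0 = C.U 1 0 * X C y b := by
  unfold X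
  calc y * C.z b * y * C.U 1 0 = y * C.z b * (y * C.U 1 0) := by group
    _ = y * (C.z b * C.U 1 0) * y := by rw [h.yU]; group
    _ = y * (C.U 1 0 * C.z b) * y := by rw [C.U_z_comm]
    _ = (y * C.U 1 0) * C.z b * y := by group
    _ = _ := by rw [h.yU]; group

theorem yvy : y * C.v (1, 0) * y = C.v (1, 0) * y * C.v (1, 0) := by
  have h1 := h.yv
  have h2 := C.v_sq (1, 0)
  have h3 : y * C.v (1, 0) * y = (C.v (1, 0))⁻¹ * y⁻¹ * (C.v (1, 0))⁻¹ *
      (C.v (1, 0) * y * (C.v (1, 0) * y) * (C.v (1, 0) * y)) := by group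
  have h4 : C.v (1, 0) * y * (C.v (1, 0) * y) * (C.v (1, 0) * y) =
      C.v (1, 0) * y * C.v (1, 0) * (y * C.v (1, 0) * y) := by group
  rw [h4] at h1
  have h5 := eq_inv_of_mul_eq_one_right h1
  rw [h5, mul_inv_rev, mul_inv_rev, C.v_inv, y_inv h, mul_assoc]

/-- the commutator of `v₁` with `X e` -/
theorem X_act (K : Coord C) (b : K8) :
    C.v (1, 0) * X C y b * C.v (1, 0) = X C y b * C.z (K.π (X C y b)).2.2 := by
  obtain ⟨h1, h2⟩ := K.act _ (h.yz b)
  have h3 := h2 (1, 0)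
  rw [emb_one, mul_one] at h3
  change X C y b * C.v (1, 0) * (X C y b)⁻¹ = C.v (1, 0) * C.z (K.π (X C y b)).2.2 at h3
  have h4 : ∀ e, X C y b * C.z e = C.z e * X C y b := h1
  calc C.v (1, 0) * X C y b * C.v (1, 0)
      = C.v (1, 0) * (X C y b * C.v (1, 0) * (X C y b)⁻¹) * X C y b := by group
    _ = (C.v (1, 0) * C.v (1, 0)) * (C.z (K.π (X C y b)).2.2 * X C y b) := by rw [h3]; group
    _ = _ := by rw [C.v_sq, one_mul, h4]

/-- the third coordinate of `X e` is `e` or `e + 1` -/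
theorem X_c (K : Coord C) (b : K8) : (K.π (X C y b)).2.2 = b ∨ (K.π (X C y b)).2.2 = b + 1 := by
  set c := (K.π (X C y b)).2.2 with hc
  have h1 := X_act h K b
  rw [← hc] at h1
  -- conjugate by `y`
  have h2 : y * (C.v (1, 0) * X C y b * C.v (1, 0)) * y = X C y b * C.z c := by
    calc y * (C.v (1, 0) * X C y b * C.v (1, 0)) * y
        = (y * C.v (1, 0) * y) * C.z b * (y * C.v (1, 0) * y) := by unfold X; group
      _ = C.v (1, 0) * y * (C.v (1, 0) * C.z b * C.v (1, 0)) * y * C.v (1, 0) := by rw [yvy h]; group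
      _ = C.v (1, 0) * (y * C.z b * y) * C.v (1, 0) := by
          rw [C.v_z_comm, mul_assoc (C.z b), C.v_sq, mul_one]; group
      _ = _ := h1
  have h3 : y * (X C y b * C.z c) * y = C.z b * X C y c := by
    calc y * (X C y b * C.z c) * y = (y * X C y b * y) * (y⁻¹ * C.z c * y) := by group
      _ = _ := by rw [yX h, y_inv h]; rfl
  rw [h1, h3] at h2
  -- `z b * X c = X b * z c`
  have h4 : X C y b * C.z c = C.z c * X C y b := (K.act _ (h.yz b)).1 c
  rw [h4] at h2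
  have h5 : X C y (c + b) = C.z (c + b) := by
    rw [X_add h, C.z_add]
    calc X C y c * X C y b = C.z b * (C.z b * X C y c) * X C y b := by rw [← mul_assoc, C.z_sq, one_mul]
      _ = C.z b * C.z c * (X C y b * X C y b) := by rw [h2]; group
      _ = _ := by rw [X_sq h, mul_one, C.z_comm]
  rcases h.yzz _ _ h5 with h6 | h6
  · left
    exact K8.add_eq_zero h6
  · right
    linear_combination h6 - b * K8.two_eq

theorem X_q (K : Coord C) (b : K8) : qf K.ν K.μ (K.π (X C y b)) = 0 := by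
  have h1 := K.sq _ (h.yz b)
  exact C.z_eq_one (h1.symm.trans (X_sq h b))

omit h in
theorem bf_zero (K : Coord C) {x x' : G} (hx : x ∈ C.QQ) (hx' : x' ∈ C.QQ) (hc : x * x' = x' * x) :
    bf K.μ (K.π x) (K.π x') = 0 := by
  have h1 := K.comm hx hx'
  rw [hc] at h1
  exact C.z_eq_one (left_eq_mul.1 h1)

end

theorem U_mem_QQ (a b : K8) : C.U a b ∈ C.QQ := Core.TT_le (Core.U_mem_TT a b)

theorem dec5 : ∀ p : A4 × K8 × K8, (p.2.2 = K8.al ^ 5 ∨ p.2.2 = K8.al ^ 5 + 1) → qf ⟨5⟩ ⟨7⟩ p = 0 →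
    bf ⟨7⟩ p (0, 1, 0) = 0 → p = ((1, 0), K8.al ^ 4, K8.al ^ 5) := by decide +kernel

theorem dec6 : ∀ p : A4 × K8 × K8, (p.2.2 = K8.al ^ 6 ∨ p.2.2 = K8.al ^ 6 + 1) → qf ⟨5⟩ ⟨7⟩ p = 0 →
    bf ⟨7⟩ p (0, 1, 0) = 0 → p = ((0, 1), K8.al, K8.al ^ 2) := by decide +kernel

theorem decP : ∀ p : A4 × K8 × K8, qf ⟨5⟩ ⟨7⟩ p = 0 →
    bf ⟨7⟩ p ((1, 0), K8.al ^ 4, K8.al ^ 5) = K8.al ^ 4 → bf ⟨7⟩ p ((0, 1), K8.al, K8.al ^ 2) = K8.al ^ 2 →
    bf ⟨7⟩ p ((0, 1, 0) + (((1, 0), K8.al ^ 4, K8.al ^ 5) + 0)) = 0 → p = ((0, 1), K8.al ^ 5, K8.al ^ 2) := by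
  decide +kernel

/-- `q` -/
def q (C : Core G) : G := C.U (K8.al ^ 6) (K8.al ^ 2)

/-- `m = v₁ q` -/
def m (C : Core G) : G := C.v (1, 0) * q C

/-- `k = y m y` -/
def k (C : Core G) (y : G) : G := y * m C * y

/-- `t₁` -/
def t1 (C : Core G) (y : G) : G := (k C y)⁻¹ * C.v (1, 0) * k C y

theorem q_mem : q C ∈ C.QQ := U_mem_QQ _ _

theorem m_mem : m C ∈ C.QQ := mul_mem (Core.TT_le (Core.v_mem_TT _)) q_mem

theorem q_sq : q C * q C = C.z (K8.al ^ 2) := by
  unfold q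
  rw [C.U_sq]
  congr 1

theorem m_z (e : K8) : m C * C.z e = C.z e * m C := by
  unfold m q
  rw [mul_assoc, C.U_z_comm, ← mul_assoc, C.v_z_comm, mul_assoc]

theorem al4 : K8.al ^ 4 = K8.al ^ 5 + 1 := by decide +kernel
theorem al5 : K8.al ^ 5 = K8.al ^ 4 + 1 := by decide +kernel
theorem al2 : K8.al ^ 2 = K8.al ^ 6 + 1 := by decide +kernel
theorem all8 : ∀ e : K8, ∃ i j l : Fin 2, e = (if i = 0 then 0 else 1) + ((if j = 0 then 0 else K8.al ^ 5) +
    (if l = 0 then 0 else K8.al ^ 6)) := by decide +kernel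

section Main

variable (h : YHyp C y) (K : Coord C) (hν : K.ν = ⟨5⟩) (hμ : K.μ = ⟨7⟩)

include h

include hν hμ in
theorem pi5 : K.π (X C y (K8.al ^ 5)) = ((1, 0), K8.al ^ 4, K8.al ^ 5) := by
  refine dec5 _ (X_c h K _) ?_ ?_
  · rw [← hν, ← hμ]
    exact X_q h K _
  · rw [← hμ, ← K.U 1 0]
    exact bf_zero K (h.yz _) (U_mem_QQ _ _) (X_comm_U h _)

include hν hμ in
theorem pi6 : K.π (X C y (K8.al ^ 6)) = ((0, 1), K8.al, K8.al ^ 2) := by
  refine dec6 _ (X_c h K _) ?_ ?_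
  · rw [← hν, ← hμ]
    exact X_q h K _
  · rw [← hμ, ← K.U 1 0]
    exact bf_zero K (h.yz _) (U_mem_QQ _ _) (X_comm_U h _)

theorem y_z1 : y * C.z 1 = C.z 1 * y := by
  have h1 := X_one h
  unfold X at h1
  calc y * C.z 1 = y * C.z 1 * (y * y) := by rw [h.y2, mul_one]
    _ = (y * C.z 1 * y) * y := by group
    _ = _ := by rw [h1]

omit h in
theorem pi_m : K.π (m C) = ((1, 0), K8.al ^ 6, 0) := by
  unfold m q
  rw [K.vU]

theorem k_z1 : k C y * C.z 1 = C.z 1 * k C y := by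
  unfold k
  calc y * m C * y * C.z 1 = y * m C * (y * C.z 1) := by group
    _ = y * (m C * C.z 1) * y := by rw [y_z1 h]; group
    _ = (y * C.z 1) * m C * y := by rw [m_z]; group
    _ = _ := by rw [y_z1 h]; group

theorem k_z_of {e l : K8} (hl : m C * X C y e = X C y e * m C * C.z l) (hl2 : y * C.z l = C.z l * y)
    (hl3 : k C y * C.z l = C.z l * k C y) : k C y * C.z e = C.z (e + l) * k C y := by
  have h1 : k C y * C.z e = y * (m C * X C y e) * y := by
    unfold k X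
    calc y * m C * y * C.z e = y * m C * y * C.z e * (y * y) := by rw [h.y2, mul_one]
      _ = _ := by group
  rw [h1, hl]
  calc y * (X C y e * m C * C.z l) * y = y * X C y e * m C * (C.z l * y) := by group
    _ = y * X C y e * m C * (y * C.z l) := by rw [hl2]
    _ = (y * X C y e * y) * (y⁻¹ * m C * y) * C.z l := by group
    _ = C.z e * (k C y * C.z l) := by rw [yX h, y_inv h, mul_assoc]; rfl
    _ = _ := by rw [hl3, C.z_add, mul_assoc]

include hν hμ in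
theorem k_z5 : k C y * C.z (K8.al ^ 5) = C.z (K8.al ^ 4) * k C y := by
  have h1 := K.comm (m_mem (C := C)) (h.yz (K8.al ^ 5))
  change m C * X C y (K8.al ^ 5) = X C y (K8.al ^ 5) * m C * C.z (bf K.μ (K.π (m C)) (K.π (X C y (K8.al ^ 5)))) at h1
  rw [pi_m, pi5 h K hν hμ, hμ] at h1
  have h2 : bf ⟨7⟩ ((1, 0), K8.al ^ 6, 0) ((1, 0), K8.al ^ 4, K8.al ^ 5) = 1 := by decide +kernel
  rw [h2] at h1
  rw [al4]
  exact k_z_of h h1 (y_z1 h) (k_z1 h)

include hν hμ in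
theorem k_z6 : k C y * C.z (K8.al ^ 6) = C.z (K8.al ^ 6) * k C y := by
  have h1 := K.comm (m_mem (C := C)) (h.yz (K8.al ^ 6))
  change m C * X C y (K8.al ^ 6) = X C y (K8.al ^ 6) * m C * C.z (bf K.μ (K.π (m C)) (K.π (X C y (K8.al ^ 6)))) at h1
  rw [pi_m, pi6 h K hν hμ, hμ] at h1
  have h2 : bf ⟨7⟩ ((1, 0), K8.al ^ 6, 0) ((0, 1), K8.al, K8.al ^ 2) = 0 := by decide +kernel
  rw [h2] at h1
  have h3 := k_z_of h h1 (by rw [C.z_zero, mul_one, one_mul]) (by rw [C.z_zero, mul_one, one_mul])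
  rwa [add_zero] at h3

include hν hμ in
theorem k_z4 : k C y * C.z (K8.al ^ 4) = C.z (K8.al ^ 5) * k C y := by
  have h1 : C.z (K8.al ^ 4) = C.z (K8.al ^ 5) * C.z 1 := by rw [← C.z_add, ← al4]
  have h2 : C.z (K8.al ^ 5) = C.z (K8.al ^ 4) * C.z 1 := by rw [← C.z_add, ← al5]
  rw [h1, ← mul_assoc, k_z5 h K hν hμ, mul_assoc, k_z1 h, ← mul_assoc, ← h2]

include hν hμ in
theorem k_z2 : k C y * C.z (K8.al ^ 2) = C.z (K8.al ^ 2) * k C y := by
  have h1 : C.z (K8.al ^ 2) = C.z (K8.al ^ 6) * C.z 1 := by rw [← C.z_add, ← al2]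
  rw [h1, ← mul_assoc, k_z6 h K hν hμ, mul_assoc, k_z1 h, ← mul_assoc]

include hν hμ in
theorem k_z (e : K8) : ∃ e', k C y * C.z e = C.z e' * k C y := by
  have hadd : ∀ a b, (∃ e', k C y * C.z a = C.z e' * k C y) → (∃ e', k C y * C.z b = C.z e' * k C y) →
      ∃ e', k C y * C.z (a + b) = C.z e' * k C y := by
    rintro a b ⟨a', ha⟩ ⟨b', hb⟩
    refine ⟨a' + b', ?_⟩
    rw [C.z_add, C.z_add, ← mul_assoc, ha, mul_assoc, hb, ← mul_assoc]
  have h0 : ∃ e', k C y * C.z 0 = C.z e' * k C y := ⟨0, by rw [C.z_zero, mul_one, one_mul]⟩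
  obtain ⟨i, j, l, rfl⟩ := all8 e
  refine hadd _ _ ?_ (hadd _ _ ?_ ?_)
  · split_ifs
    · exact h0
    · exact ⟨_, k_z1 h⟩
  · split_ifs
    · exact h0
    · exact ⟨_, k_z5 h K hν hμ⟩
  · split_ifs
    · exact h0
    · exact ⟨_, k_z6 h K hν hμ⟩

omit h in
theorem k_t1 : k C y * t1 C y = C.v (1, 0) * k C y := by
  unfold t1
  group

include hν hμ in
theorem t1_z (e : K8) : t1 C y * C.z e = C.z e * t1 C y := by
  obtain ⟨e', he⟩ := k_z h K hν hμ e
  have h1 : (k C y)⁻¹ * C.z e' = C.z e * (k C y)⁻¹ := by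
    rw [inv_mul_eq_iff_eq_mul, ← mul_assoc, he, mul_inv_cancel_right]
  unfold t1
  calc (k C y)⁻¹ * C.v (1, 0) * k C y * C.z e = (k C y)⁻¹ * C.v (1, 0) * (k C y * C.z e) := by group
    _ = (k C y)⁻¹ * (C.v (1, 0) * C.z e') * k C y := by rw [he]; group
    _ = ((k C y)⁻¹ * C.z e') * C.v (1, 0) * k C y := by rw [C.v_z_comm]; group
    _ = _ := by rw [h1]; group

omit h in
theorem t1_sq : t1 C y * t1 C y = 1 := by
  unfold t1
  calc (k C y)⁻¹ * C.v (1, 0) * k C y * ((k C y)⁻¹ * C.v (1, 0) * k C y)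
      = (k C y)⁻¹ * (C.v (1, 0) * C.v (1, 0)) * k C y := by group
    _ = 1 := by rw [C.v_sq]; group

theorem k_X (e : K8) : k C y * X C y e = X C y e * k C y := by
  unfold k X
  calc y * m C * y * (y * C.z e * y) = y * m C * (y * y) * C.z e * y := by group
    _ = y * (m C * C.z e) * y := by rw [h.y2]; group
    _ = y * (C.z e * m C) * y := by rw [m_z]
    _ = y * C.z e * (y * y) * m C * y := by rw [h.y2]; group
    _ = _ := by group

variable (hcz : ∀ g : G, (∀ b, g * C.z b = C.z b * g) → g ∈ C.QQ)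

include hcz

include hν hμ in
theorem t1_mem : t1 C y ∈ C.QQ := hcz _ (t1_z h K hν hμ)

include hν hμ in
theorem bf_X (e : K8) :
    k C y * C.z (bf K.μ (K.π (t1 C y)) (K.π (X C y e))) = C.z (K.π (X C y e)).2.2 * k C y := by
  have h1 := K.comm (t1_mem h K hν hμ hcz) (h.yz e)
  change t1 C y * X C y e = X C y e * t1 C y * C.z (bf K.μ (K.π (t1 C y)) (K.π (X C y e))) at h1
  have h2 := X_act h K e
  set c := (K.π (X C y e)).2.2
  set β := bf K.μ (K.π (t1 C y)) (K.π (X C y e))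
  have h3 : k C y * (t1 C y * X C y e) = C.v (1, 0) * X C y e * k C y := by
    rw [← mul_assoc, k_t1, mul_assoc, k_X h, ← mul_assoc]
  have h4 : k C y * (X C y e * t1 C y * C.z β) = X C y e * C.v (1, 0) * k C y * C.z β := by
    calc k C y * (X C y e * t1 C y * C.z β) = (k C y * X C y e) * t1 C y * C.z β := by group
      _ = X C y e * (k C y * t1 C y) * C.z β := by rw [k_X h]; group
      _ = _ := by rw [k_t1]; group
  rw [h1, h4] at h3
  -- `X v k z(β) = v X k`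
  have h5 : C.v (1, 0) * X C y e = X C y e * C.v (1, 0) * C.z c := by
    calc C.v (1, 0) * X C y e = C.v (1, 0) * X C y e * C.v (1, 0) * C.v (1, 0) := by
          rw [mul_assoc _ (C.v (1, 0)) (C.v (1, 0)), C.v_sq, mul_one]
      _ = X C y e * (C.z c * C.v (1, 0)) := by rw [h2]; group
      _ = _ := by rw [← C.v_z_comm]; group
  rw [h5] at h3
  have h6 : (X C y e * C.v (1, 0)) * (k C y * C.z β) = (X C y e * C.v (1, 0)) * (C.z c * k C y) := by
    calc _ = X C y e * C.v (1, 0) * k C y * C.z β := by group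
      _ = _ := by rw [h3]; group
  exact mul_left_cancel h6

include hν hμ in
theorem bf5 : bf K.μ (K.π (t1 C y)) (K.π (X C y (K8.al ^ 5))) = K8.al ^ 4 := by
  have h1 := bf_X h K hν hμ hcz (K8.al ^ 5)
  rw [pi5 h K hν hμ] at h1 ⊢
  change _ = C.z (K8.al ^ 5) * k C y at h1
  rw [← k_z4 h K hν hμ] at h1
  exact C.z_inj (mul_left_cancel h1)

include hν hμ in
theorem bf6 : bf K.μ (K.π (t1 C y)) (K.π (X C y (K8.al ^ 6))) = K8.al ^ 2 := by
  have h1 := bf_X h K hν hμ hcz (K8.al ^ 6)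
  rw [pi6 h K hν hμ] at h1 ⊢
  change _ = C.z (K8.al ^ 2) * k C y at h1
  rw [← k_z2 h K hν hμ] at h1
  exact C.z_inj (mul_left_cancel h1)

omit hcz in
theorem k_u : k C y * (C.U 1 0 * X C y (K8.al ^ 4)) = C.U 1 0 * k C y := by
  have h1 : q C * C.U 1 0 * C.z (K8.al ^ 4) = C.U 1 0 * q C := by
    unfold q
    rw [C.U_mul, C.U_mul, C.U_mul_z]
    have h1 : K8.al ^ 6 + 1 = 1 + K8.al ^ 6 := by decide +kernel
    have h2 : K8.al ^ 2 + 0 + K8.al ^ 6 * 1 ^ 4 + K8.al ^ 4 = 0 + K8.al ^ 2 + 1 * (K8.al ^ 6) ^ 4 := by decide +kernel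
    rw [h1, h2]
  have h2 : m C * C.U 1 0 * C.z (K8.al ^ 4) = C.U 1 0 * m C := by
    unfold m
    calc C.v (1, 0) * q C * C.U 1 0 * C.z (K8.al ^ 4) = C.v (1, 0) * (q C * C.U 1 0 * C.z (K8.al ^ 4)) := by group
      _ = (C.v (1, 0) * C.U 1 0) * q C := by rw [h1]; group
      _ = _ := by rw [C.v_U_comm]; group
  unfold k X
  calc y * m C * y * (C.U 1 0 * (y * C.z (K8.al ^ 4) * y))
      = y * m C * (y * C.U 1 0) * y * C.z (K8.al ^ 4) * y := by group
    _ = y * m C * C.U 1 0 * (y * y) * C.z (K8.al ^ 4) * y := by rw [h.yU]; group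
    _ = y * (m C * C.U 1 0 * C.z (K8.al ^ 4)) * y := by rw [h.y2]; group
    _ = (y * C.U 1 0) * m C * y := by rw [h2]; group
    _ = _ := by rw [h.yU]; group

omit h hcz in
theorem comm_conj {a b c g : G} (h1 : g * a = b * g) (hc : c * b = b * c) :
    (g⁻¹ * c * g) * a = a * (g⁻¹ * c * g) := by
  have h2 : g⁻¹ * b = a * g⁻¹ := by
    rw [inv_mul_eq_iff_eq_mul, ← mul_assoc, h1, mul_inv_cancel_right]
  calc (g⁻¹ * c * g) * a = g⁻¹ * c * (g * a) := by group
    _ = g⁻¹ * (c * b) * g := by rw [h1]; group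
    _ = (g⁻¹ * b) * c * g := by rw [hc]; group
    _ = _ := by rw [h2]; group

omit hcz in
theorem t1_u : t1 C y * (C.U 1 0 * X C y (K8.al ^ 4)) = (C.U 1 0 * X C y (K8.al ^ 4)) * t1 C y :=
  comm_conj (k_u h) (C.v_U_comm _ _ _)

omit hcz in
theorem X4_eq : X C y (K8.al ^ 4) = X C y (K8.al ^ 5) * C.z 1 := by
  rw [← X_one h, ← X_add h, ← al4]

omit hcz in
theorem X2_eq : X C y (K8.al ^ 2) = X C y (K8.al ^ 6) * C.z 1 := by
  rw [← X_one h, ← X_add h, ← al2]

include hν hμ in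
theorem pi_t1 : K.π (t1 C y) = ((0, 1), K8.al ^ 5, K8.al ^ 2) := by
  have h5 := bf5 h K hν hμ hcz
  have h6 := bf6 h K hν hμ hcz
  have hm := t1_mem h K hν hμ hcz
  have hu := bf_zero K hm (mul_mem (U_mem_QQ _ _) (h.yz (K8.al ^ 4))) (t1_u h)
  have hX : X C y (K8.al ^ 5) ∈ C.QQ := h.yz _
  change bf K.μ (K.π (t1 C y)) (K.π (C.U 1 0 * X C y (K8.al ^ 4))) = 0 at hu
  rw [X4_eq h, K.mul _ (U_mem_QQ _ _) _ (mul_mem hX (Core.z_mem_QQ _)), K.mul _ hX _ (Core.z_mem_QQ _), K.U, K.z,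
    pi5 h K hν hμ, hμ] at hu
  rw [pi5 h K hν hμ, hμ] at h5
  rw [pi6 h K hν hμ, hμ] at h6
  refine decP _ ?_ h5 h6 hu
  have h7 := K.sq _ hm
  rw [t1_sq, hν, hμ] at h7
  exact C.z_eq_one h7.symm

omit hcz in
theorem t1_eq : t1 C y = y * (q C)⁻¹ * y * q C * y := by
  have h1 : (k C y)⁻¹ = y * (q C)⁻¹ * C.v (1, 0) * y := by
    unfold k m
    rw [mul_inv_rev, mul_inv_rev, mul_inv_rev, y_inv h, C.v_inv]
    group
  unfold t1
  rw [h1]
  unfold k m
  calc y * (q C)⁻¹ * C.v (1, 0) * y * C.v (1, 0) * (y * (C.v (1, 0) * q C) * y)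
      = y * (q C)⁻¹ * C.v (1, 0) * (y * C.v (1, 0) * y) * C.v (1, 0) * q C * y := by group
    _ = y * (q C)⁻¹ * (C.v (1, 0) * C.v (1, 0)) * y * (C.v (1, 0) * C.v (1, 0)) * q C * y := by
        rw [yvy h]; group
    _ = _ := by rw [C.v_sq]; group

include hν hμ in
/-- the key relation up to one case -/
theorem cube : (q C * y) * (q C * y) * (q C * y) = 1 ∨ (q C * y) * (q C * y) * (q C * y) = C.z 1 := by
  have hX2 : X C y (K8.al ^ 2) ∈ C.QQ := h.yz _
  have hX6 : X C y (K8.al ^ 6) ∈ C.QQ := h.yz _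
  have hm := t1_mem h K hν hμ hcz
  have hq2 : q C * X C y (K8.al ^ 2) ∈ C.QQ := mul_mem q_mem hX2
  have hπ : K.π (t1 C y) = K.π (q C * X C y (K8.al ^ 2)) := by
    rw [pi_t1 h K hν hμ hcz, K.mul _ q_mem _ hX2, X2_eq h, K.mul _ hX6 _ (Core.z_mem_QQ _), pi6 h K hν hμ, K.z]
    unfold q
    rw [K.U]
    decide +kernel
  obtain ⟨e, he⟩ := K.eq_mul_z hm hq2 hπ
  set A := q C * y with hA
  have h1 : t1 C y = A⁻¹ * y * A := by
    rw [t1_eq h, hA, mul_inv_rev, y_inv h]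
    group
  have h2 : q C * X C y (K8.al ^ 2) = A * A * y * A := by
    unfold X
    rw [← q_sq]
    calc q C * (y * (q C * q C) * y) = (q C * y) * q C * (y * y) * (y * y) * q C * y := by rw [h.y2]; group
      _ = (q C * y) * (q C * y) * y * (y * y) * q C * y := by group
      _ = _ := by rw [h.y2, hA]; group
  have h3 : q C * X C y (K8.al ^ 2) * C.z e = C.z e * (q C * X C y (K8.al ^ 2)) := Core.zcomm hq2 e
  rw [he, h3, h2] at h1
  have h4 : C.z e * A * A = A⁻¹ := by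
    have : (C.z e * A * A) * (y * A) = A⁻¹ * (y * A) := by
      calc _ = C.z e * (A * A * y * A) := by group
        _ = _ := by rw [h1]; group
    exact mul_right_cancel this
  have h5 : A * A * A = C.z e := by
    have h6 : C.z e * (A * A * A) = 1 := by
      calc _ = (C.z e * A * A) * A := by group
        _ = 1 := by rw [h4]; group
    rw [eq_comm, ← C.z_inv]
    exact (eq_inv_of_mul_eq_one_right h6).symm
  have hAz : A * C.z e = C.z e * A := by
    rw [← h5]; group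
  have hqz : q C * C.z e = C.z e * q C := Core.zcomm q_mem e
  have hyz : y * C.z e = C.z e * y := by
    have h7 : y = (q C)⁻¹ * A := by rw [hA]; group
    have h8 : (q C)⁻¹ * C.z e = C.z e * (q C)⁻¹ := by
      rw [inv_mul_eq_iff_eq_mul, ← mul_assoc, hqz, mul_inv_cancel_right]
    calc y * C.z e = (q C)⁻¹ * (A * C.z e) := by rw [h7]; group
      _ = ((q C)⁻¹ * C.z e) * A := by rw [hAz]; group
      _ = C.z e * ((q C)⁻¹ * A) := by rw [h8]; group
      _ = _ := by rw [← h7]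
  have h8 : y * C.z e * y = C.z e := by
    rw [hyz, mul_assoc, h.y2, mul_one]
  rcases h.yzz _ _ h8 with h9 | h9
  · left
    rw [h5, h9, C.z_zero]
  · right
    rw [h5, h9]

end Main

end Cfsg.Agent.RuE.OneRel
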