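import Cfsg.Agent.RuB.Core

/-!
# Computation in `Sz(8) : 3`

`SzData G`: elements `u a b`, `d k`, `w`, `s` of a group satisfying the relations of `Sz(8) : 3`; the only relation
involving `w` and `u` is `w * u 1 0 * w = u 1 0 * w * u 0 1`. All the other relations `w * u a b * w = …` follow
(`bn_thm`), hence words can be evaluated to a normal form (`run`, `val_run`).
-/

set_option autoImplicit false

namespace Cfsg.Agent.RuE

open Cfsg.Agent.RuB

/-- relations of `Sz(8) : 3` -/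
structure SzData (G : Type*) [Group G] where
  u : K8 → K8 → G
  d : K8 → G
  w : G
  s : G
  u_mul : ∀ a b c e, u a b * u c e = u (a + c) (b + e + a * c ^ 4)
  u_zero : u 0 0 = 1
  d_one : d 1 = 1
  d_mul : ∀ k l, k ≠ 0 → l ≠ 0 → d k * d l = d (k * l)
  d_u : ∀ k a b, k ≠ 0 → d k * u a b = u (a * k ^ 5) (b * k ^ 4) * d k
  w_w : w * w = 1
  w_d : ∀ k, k ≠ 0 → w * d k = d (k ^ 6) * w
  hw : w * u 1 0 * w = u 1 0 * w * u 0 1
  s_u : ∀ a b, s * u a b = u (a ^ 2) (b ^ 2) * s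
  s_d : ∀ k, k ≠ 0 → s * d k = d (k ^ 2) * s
  s_w : s * w = w * s
  s3 : s * s * s = 1

/-- the table of `w * u a b * w = u A₁ B₁ * d K * w * u A₂ B₂`: fields `3 i` of the block `15 (8 a + b)` -/
def bnTab : ℕ := 8324157656823319078790713908857557962258194920955166538567424973836909260005040527657471666361097501534906164092915688011286527971193579094496867974373655100163500805769138929492796570542859671668499088035498737013453780426068173607500931417324785956120199160359911820358469498590609047616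

def bn (i : ℕ) (a b : K8) : K8 :=
  ⟨⟨(bnTab >>> (15 * (8 * a.val.1 + b.val.1) + 3 * i)) % 8, Nat.mod_lt _ (by norm_num)⟩⟩

namespace SzData

variable {G : Type*} [Group G] (D : SzData G)

/-- the relation for `(a, b)` -/
def P (a b : K8) : Prop :=
  D.w * D.u a b * D.w = D.u (bn 0 a b) (bn 1 a b) * D.d (bn 2 a b) * D.w * D.u (bn 3 a b) (bn 4 a b)

theorem w_inv : D.w⁻¹ = D.w := inv_eq_of_mul_eq_one_right D.w_w

theorem u_inv (a b : K8) : (D.u a b)⁻¹ = D.u a (b + a ^ 5) := by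
  rw [inv_eq_iff_mul_eq_one, D.u_mul, ← D.u_zero]
  congr 1
  · exact K8.add_self a
  · linear_combination (b + a ^ 5) * K8.two_eq

theorem d_inv (k : K8) (hk : k ≠ 0) : (D.d k)⁻¹ = D.d (k ^ 6) := by
  have h6 : k ^ 6 ≠ 0 := pow_ne_zero _ hk
  rw [inv_eq_iff_mul_eq_one, D.d_mul _ _ hk h6]
  have : k * k ^ 6 = 1 := by
    revert k
    decide +kernel
  rw [this, D.d_one]

theorem P_inv {a b : K8} (hab : ¬ (a = 0 ∧ b = 0)) (h : D.P a b) : D.P a (b + a ^ 5) := by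
  have key : ∀ a b : K8, ¬ (a = 0 ∧ b = 0) →
      (bn 0 a (b + a ^ 5) = bn 3 a b ∧ bn 1 a (b + a ^ 5) = bn 4 a b + (bn 3 a b) ^ 5 ∧
        bn 2 a (b + a ^ 5) = bn 2 a b ∧ bn 3 a (b + a ^ 5) = bn 0 a b ∧
        bn 4 a (b + a ^ 5) = bn 1 a b + (bn 0 a b) ^ 5 ∧ bn 2 a b ≠ 0 ∧ ((bn 2 a b) ^ 6) ^ 6 = bn 2 a b) := by
    decide +kernel
  obtain ⟨k0, k1, k2, k3, k4, k5, k6⟩ := key a b hab
  unfold P at h ⊢
  rw [k0, k1, k2, k3, k4]
  have h2 := congrArg (·⁻¹) h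
  simp only [mul_inv_rev, D.w_inv, D.u_inv, D.d_inv _ k5] at h2
  have h6 : (bn 2 a b) ^ 6 ≠ 0 := pow_ne_zero _ k5
  calc D.w * D.u a (b + a ^ 5) * D.w = D.w * (D.u a (b + a ^ 5) * D.w) := by group
    _ = _ := h2
    _ = D.u (bn 3 a b) (bn 4 a b + (bn 3 a b) ^ 5) * (D.w * D.d ((bn 2 a b) ^ 6)) *
          D.u (bn 0 a b) (bn 1 a b + (bn 0 a b) ^ 5) := by group
    _ = _ := by rw [D.w_d _ h6, k6]; group

theorem u_d (k a b : K8) (hk : k ≠ 0) : D.u a b * D.d k = D.d k * D.u (a * k ^ 2) (b * k ^ 3) := by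
  rw [D.d_u _ _ _ hk]
  have h7 : k ^ 7 = 1 := by
    revert k
    decide +kernel
  congr 2
  · linear_combination (-a) * h7
  · linear_combination (-b) * h7

theorem P_torus {a b t : K8} (ht : t ≠ 0) (hab : ¬ (a = 0 ∧ b = 0)) (h : D.P a b) :
    D.P (a * t ^ 5) (b * t ^ 4) := by
  have key : ∀ t a b : K8, t ≠ 0 → ¬ (a = 0 ∧ b = 0) →
      (bn 0 (a * t ^ 5) (b * t ^ 4) = bn 0 a b * t ^ 2 ∧ bn 1 (a * t ^ 5) (b * t ^ 4) = bn 1 a b * t ^ 3 ∧
        bn 2 (a * t ^ 5) (b * t ^ 4) = bn 2 a b * t ^ 5 ∧ bn 3 (a * t ^ 5) (b * t ^ 4) = bn 3 a b * t ^ 2 ∧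
        bn 4 (a * t ^ 5) (b * t ^ 4) = bn 4 a b * t ^ 3 ∧ bn 2 a b ≠ 0 ∧
        t ^ 6 * bn 2 a b * t ^ 6 = bn 2 a b * t ^ 5 ∧ (t ^ 6) ^ 5 = t ^ 2 ∧ (t ^ 6) ^ 4 = t ^ 3) := by
    decide +kernel
  obtain ⟨k0, k1, k2, k3, k4, k5, k6, k7, k8⟩ := key t a b ht hab
  unfold P at h ⊢
  rw [k0, k1, k2, k3, k4]
  have h6 : t ^ 6 ≠ 0 := pow_ne_zero _ ht
  have hti := D.d_inv t ht
  -- u (a t^5) (b t^4) = d t * u a b * d (t^6)
  have e1 : D.u (a * t ^ 5) (b * t ^ 4) = D.d t * D.u a b * (D.d t)⁻¹ := by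
    rw [D.d_u _ _ _ ht, mul_inv_cancel_right]
  have e2 : D.w * D.d t = D.d (t ^ 6) * D.w := D.w_d t ht
  have e3 : (D.d t)⁻¹ * D.w = D.w * D.d t := by
    rw [e2, hti]
  have e4 : D.d (t ^ 6) * D.u (bn 0 a b) (bn 1 a b) =
      D.u (bn 0 a b * t ^ 2) (bn 1 a b * t ^ 3) * D.d (t ^ 6) := by
    rw [D.d_u _ _ _ h6, k7, k8]
  have e5 : D.u (bn 3 a b) (bn 4 a b) * D.d t =
      D.d t * D.u (bn 3 a b * t ^ 2) (bn 4 a b * t ^ 3) := D.u_d _ _ _ ht
  have h56 : t ^ 6 * bn 2 a b ≠ 0 := mul_ne_zero h6 k5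
  calc D.w * D.u (a * t ^ 5) (b * t ^ 4) * D.w
      = (D.w * D.d t) * D.u a b * ((D.d t)⁻¹ * D.w) := by rw [e1]; group
    _ = D.d (t ^ 6) * (D.w * D.u a b * D.w) * D.d t := by rw [e2, e3]; group
    _ = (D.d (t ^ 6) * D.u (bn 0 a b) (bn 1 a b)) * D.d (bn 2 a b) * D.w *
          (D.u (bn 3 a b) (bn 4 a b) * D.d t) := by rw [h]; group
    _ = D.u (bn 0 a b * t ^ 2) (bn 1 a b * t ^ 3) * (D.d (t ^ 6) * D.d (bn 2 a b)) * (D.w * D.d t) *
          D.u (bn 3 a b * t ^ 2) (bn 4 a b * t ^ 3) := by rw [e4, e5]; group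
    _ = D.u (bn 0 a b * t ^ 2) (bn 1 a b * t ^ 3) * (D.d (t ^ 6) * D.d (bn 2 a b) * D.d (t ^ 6)) * D.w *
          D.u (bn 3 a b * t ^ 2) (bn 4 a b * t ^ 3) := by rw [e2]; group
    _ = _ := by rw [D.d_mul _ _ h6 k5, D.d_mul _ _ h56 h6, k6]

/-- product rule -/
theorem P_mul (a b c e : K8) (hx : D.P a b) (hy : D.P c e)
    (hg : D.P (bn 3 a b + bn 0 c e) (bn 4 a b + bn 1 c e + bn 3 a b * (bn 0 c e) ^ 4))
    (k l m : K8) (hk : k = bn 2 a b) (hl : l = bn 2 c e)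
    (hm : m = bn 2 (bn 3 a b + bn 0 c e) (bn 4 a b + bn 1 c e + bn 3 a b * (bn 0 c e) ^ 4))
    (g1 g2 g3 g4 : K8)
    (hg1 : g1 = bn 0 (bn 3 a b + bn 0 c e) (bn 4 a b + bn 1 c e + bn 3 a b * (bn 0 c e) ^ 4))
    (hg2 : g2 = bn 1 (bn 3 a b + bn 0 c e) (bn 4 a b + bn 1 c e + bn 3 a b * (bn 0 c e) ^ 4))
    (hg3 : g3 = bn 3 (bn 3 a b + bn 0 c e) (bn 4 a b + bn 1 c e + bn 3 a b * (bn 0 c e) ^ 4))
    (hg4 : g4 = bn 4 (bn 3 a b + bn 0 c e) (bn 4 a b + bn 1 c e + bn 3 a b * (bn 0 c e) ^ 4))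
    (hk0 : k ≠ 0) (hl0 : l ≠ 0) (hm0 : m ≠ 0)
    (r0 : bn 0 (a + c) (b + e + a * c ^ 4) = bn 0 a b + g1 * k ^ 5)
    (r1 : bn 1 (a + c) (b + e + a * c ^ 4) = bn 1 a b + g2 * k ^ 4 + bn 0 a b * (g1 * k ^ 5) ^ 4)
    (r2 : bn 2 (a + c) (b + e + a * c ^ 4) = k * m * l)
    (r3 : bn 3 (a + c) (b + e + a * c ^ 4) = g3 * l ^ 5 + bn 3 c e)
    (r4 : bn 4 (a + c) (b + e + a * c ^ 4) = g4 * l ^ 4 + bn 4 c e + (g3 * l ^ 5) * (bn 3 c e) ^ 4)
    (r5 : (l ^ 6) ^ 6 = l) :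
    D.P (a + c) (b + e + a * c ^ 4) := by
  unfold P at hx hy hg ⊢
  rw [← hg1, ← hg2, ← hg3, ← hg4, ← hm] at hg
  rw [← hk] at hx
  rw [← hl] at hy
  rw [r0, r1, r2, r3, r4]
  have hl6 : l ^ 6 ≠ 0 := pow_ne_zero _ hl0
  have e1 : D.d l * D.w = D.w * D.d (l ^ 6) := by
    rw [D.w_d _ hl6, r5]
  have e2 : D.d (l ^ 6) = (D.d l)⁻¹ := (D.d_inv l hl0).symm
  have e3 : D.d l * D.u g3 g4 * (D.d l)⁻¹ = D.u (g3 * l ^ 5) (g4 * l ^ 4) := by
    rw [D.d_u _ _ _ hl0, mul_inv_cancel_right]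
  have e4 : D.d k * D.u g1 g2 = D.u (g1 * k ^ 5) (g2 * k ^ 4) * D.d k := D.d_u _ _ _ hk0
  have hkm : k * m ≠ 0 := mul_ne_zero hk0 hm0
  have e5 : D.w * (D.d l)⁻¹ = D.d l * D.w := by
    rw [← e2, D.w_d _ hl6, r5]
  calc D.w * D.u (a + c) (b + e + a * c ^ 4) * D.w
      = D.w * (D.u a b * (D.w * D.w) * D.u c e) * D.w := by rw [D.w_w, mul_one, D.u_mul]
    _ = (D.w * D.u a b * D.w) * (D.w * D.u c e * D.w) := by group
    _ = D.u (bn 0 a b) (bn 1 a b) * D.d k * (D.w * (D.u (bn 3 a b) (bn 4 a b) * D.u (bn 0 c e) (bn 1 c e)) *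
          (D.d l * D.w)) * D.u (bn 3 c e) (bn 4 c e) := by rw [hx, hy]; group
    _ = D.u (bn 0 a b) (bn 1 a b) * D.d k * (D.w * D.u (bn 3 a b + bn 0 c e)
          (bn 4 a b + bn 1 c e + bn 3 a b * (bn 0 c e) ^ 4) * D.w) * (D.d l)⁻¹ *
          D.u (bn 3 c e) (bn 4 c e) := by rw [e1, e2, D.u_mul]; group
    _ = D.u (bn 0 a b) (bn 1 a b) * (D.d k * D.u g1 g2) * D.d m * D.w * D.u g3 g4 * (D.d l)⁻¹ *
          D.u (bn 3 c e) (bn 4 c e) := by rw [hg]; group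
    _ = (D.u (bn 0 a b) (bn 1 a b) * D.u (g1 * k ^ 5) (g2 * k ^ 4)) * (D.d k * D.d m) * (D.w * (D.d l)⁻¹) *
          (D.d l * D.u g3 g4 * (D.d l)⁻¹) * D.u (bn 3 c e) (bn 4 c e) := by rw [e4]; group
    _ = (D.u (bn 0 a b) (bn 1 a b) * D.u (g1 * k ^ 5) (g2 * k ^ 4)) * (D.d k * D.d m * D.d l) * D.w *
          (D.u (g3 * l ^ 5) (g4 * l ^ 4) * D.u (bn 3 c e) (bn 4 c e)) := by rw [e3, e5]; group
    _ = _ := by rw [D.d_mul _ _ hk0 hm0, D.d_mul _ _ hkm hl0, D.u_mul, D.u_mul]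


theorem P_orb {r1 r2 a b : K8} (h : D.P r1 r2) (hr : ¬ (r1 = 0 ∧ r2 = 0)) (t : K8) (ht : t ≠ 0)
    (ha : a = r1 * t ^ 5) (hb : b = r2 * t ^ 4) : D.P a b := by
  rw [ha, hb]
  exact D.P_torus ht hr h

/-- the conditions of `P_mul` -/
def mulOk (a b c e : K8) : Bool :=
  let x3 := bn 3 a b + bn 0 c e
  let x4 := bn 4 a b + bn 1 c e + bn 3 a b * (bn 0 c e) ^ 4
  let k := bn 2 a b
  let l := bn 2 c e
  let m := bn 2 x3 x4
  let A := a + c
  let B := b + e + a * c ^ 4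
  decide (k ≠ 0) && decide (l ≠ 0) && decide (m ≠ 0) &&
  decide (bn 0 A B = bn 0 a b + bn 0 x3 x4 * k ^ 5) &&
  decide (bn 1 A B = bn 1 a b + bn 1 x3 x4 * k ^ 4 + bn 0 a b * (bn 0 x3 x4 * k ^ 5) ^ 4) &&
  decide (bn 2 A B = k * m * l) &&
  decide (bn 3 A B = bn 3 x3 x4 * l ^ 5 + bn 3 c e) &&
  decide (bn 4 A B = bn 4 x3 x4 * l ^ 4 + bn 4 c e + (bn 3 x3 x4 * l ^ 5) * (bn 3 c e) ^ 4) &&
  decide ((l ^ 6) ^ 6 = l)

theorem P_mulOk (a b c e : K8) (hx : D.P a b) (hy : D.P c e)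
    (hg : D.P (bn 3 a b + bn 0 c e) (bn 4 a b + bn 1 c e + bn 3 a b * (bn 0 c e) ^ 4))
    (hok : mulOk a b c e = true) : D.P (a + c) (b + e + a * c ^ 4) := by
  simp only [mulOk, Bool.and_eq_true, decide_eq_true_eq] at hok
  obtain ⟨⟨⟨⟨⟨⟨⟨⟨h1, h2⟩, h3⟩, h4⟩, h5⟩, h6⟩, h7⟩, h8⟩, h9⟩ := hok
  exact D.P_mul a b c e hx hy hg _ _ _ rfl rfl rfl _ _ _ _ rfl rfl rfl rfl h1 h2 h3 h4 h5 h6 h7 h8 h9

theorem P_step (a b c e A B X Y : K8) (hx : D.P a b) (hy : D.P c e) (hg : D.P X Y)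
    (hX : X = bn 3 a b + bn 0 c e) (hY : Y = bn 4 a b + bn 1 c e + bn 3 a b * (bn 0 c e) ^ 4)
    (hA : A = a + c) (hB : B = b + e + a * c ^ 4)
    (hok : mulOk a b c e = true) : D.P A B := by
  subst hX hY hA hB
  exact D.P_mulOk a b c e hx hy hg hok

theorem P10 : D.P 1 0 := by
  have h : bn 0 1 0 = 1 ∧ bn 1 1 0 = 0 ∧ bn 2 1 0 = 1 ∧ bn 3 1 0 = 0 ∧ bn 4 1 0 = 1 := by decide +kernel
  obtain ⟨h0, h1, h2, h3, h4⟩ := h
  unfold P
  rw [h0, h1, h2, h3, h4, D.d_one, mul_one]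
  exact D.hw

theorem P_inv' {a b : K8} (h : D.P a b) (hab : ¬ (a = 0 ∧ b = 0)) (c : K8) (hc : c = b + a ^ 5) : D.P a c := by
  rw [hc]
  exact D.P_inv hab h

theorem reps : D.P 0 1 ∧ D.P 1 0 ∧ D.P 1 1 ∧ D.P 1 ⟨2⟩ ∧ D.P 1 ⟨3⟩ ∧ D.P 1 ⟨4⟩ ∧ D.P 1 ⟨5⟩ ∧ D.P 1 ⟨6⟩ ∧ D.P 1 ⟨7⟩ := by
  have p10 := D.P10
  have p11 : D.P 1 1 := D.P_inv' p10 (by decide +kernel) 1 (by decide +kernel)
  have p01 : D.P 0 1 := D.P_step 1 1 1 1 0 1 1 0 p11 p11 p10 (by decide +kernel) (by decide +kernel)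
    (by decide +kernel) (by decide +kernel) (by decide +kernel)
  have p12 : D.P 1 ⟨2⟩ := D.P_step 0 ⟨2⟩ 1 0 1 ⟨2⟩ ⟨7⟩ ⟨6⟩
    (D.P_orb p01 (by decide +kernel) ⟨4⟩ (by decide +kernel) (by decide +kernel) (by decide +kernel)) p10
    (D.P_orb p11 (by decide +kernel) ⟨2⟩ (by decide +kernel) (by decide +kernel) (by decide +kernel))
    (by decide +kernel) (by decide +kernel) (by decide +kernel) (by decide +kernel) (by decide +kernel)
  have p13 : D.P 1 ⟨3⟩ := D.P_inv' p12 (by decide +kernel) _ (by decide +kernel)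
  have p14 : D.P 1 ⟨4⟩ := D.P_step ⟨2⟩ ⟨5⟩ ⟨3⟩ ⟨4⟩ 1 ⟨4⟩ 0 ⟨2⟩
    (D.P_orb p12 (by decide +kernel) ⟨3⟩ (by decide +kernel) (by decide +kernel) (by decide +kernel))
    (D.P_orb p12 (by decide +kernel) ⟨4⟩ (by decide +kernel) (by decide +kernel) (by decide +kernel))
    (D.P_orb p01 (by decide +kernel) ⟨4⟩ (by decide +kernel) (by decide +kernel) (by decide +kernel))
    (by decide +kernel) (by decide +kernel) (by decide +kernel) (by decide +kernel) (by decide +kernel)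
  have p15 : D.P 1 ⟨5⟩ := D.P_inv' p14 (by decide +kernel) _ (by decide +kernel)
  have p16 : D.P 1 ⟨6⟩ := D.P_step ⟨4⟩ ⟨3⟩ ⟨5⟩ ⟨2⟩ 1 ⟨6⟩ 0 ⟨7⟩
    (D.P_orb p11 (by decide +kernel) ⟨5⟩ (by decide +kernel) (by decide +kernel) (by decide +kernel))
    (D.P_orb p15 (by decide +kernel) ⟨6⟩ (by decide +kernel) (by decide +kernel) (by decide +kernel))
    (D.P_orb p01 (by decide +kernel) ⟨3⟩ (by decide +kernel) (by decide +kernel) (by decide +kernel))
    (by decide +kernel) (by decide +kernel) (by decide +kernel) (by decide +kernel) (by decide +kernel)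
  have p17 : D.P 1 ⟨7⟩ := D.P_inv' p16 (by decide +kernel) _ (by decide +kernel)
  exact ⟨p01, p10, p11, p12, p13, p14, p15, p16, p17⟩

/-- all the relations `w * u a b * w = …` -/
theorem bn_thm {a b : K8} (hab : ¬ (a = 0 ∧ b = 0)) : D.P a b := by
  obtain ⟨p01, p10, p11, p12, p13, p14, p15, p16, p17⟩ := D.reps
  have key : ∀ a b : K8, ¬ (a = 0 ∧ b = 0) →
      (∃ t : K8, t ≠ 0 ∧ ((a = 0 * t ^ 5 ∧ b = 1 * t ^ 4) ∨ ∃ r : K8, a = 1 * t ^ 5 ∧ b = r * t ^ 4)) := by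
    decide +kernel
  have hr : ∀ r : K8, D.P 1 r := by
    rintro ⟨r⟩
    fin_cases r
    exacts [p10, p11, p12, p13, p14, p15, p16, p17]
  obtain ⟨t, ht, ⟨h1, h2⟩ | ⟨r, h1, h2⟩⟩ := key a b hab
  · exact D.P_orb p01 (fun h => one_ne_zero h.2) t ht h1 h2
  · exact D.P_orb (hr r) (fun h => one_ne_zero h.1) t ht h1 h2

end SzData

/-! ### evaluation -/

/-- normal forms `u a b * d k * (w * u c e if big) * s ^ i` -/
structure NF where
  big : Bool
  a : K8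
  b : K8
  k : K8
  c : K8
  e : K8
  i : Fin 3
deriving DecidableEq

/-- letters -/
inductive Lt where
  | u (a b : K8) : Lt
  | d (k : K8) : Lt
  | w : Lt
  | s : Lt
deriving DecidableEq

/-- Frobenius -/
def fro (x : K8) (i : Fin 3) : K8 := x ^ (2 ^ i.1)

def NF.one : NF := ⟨false, 0, 0, 1, 0, 0, 0⟩

/-- right multiplication by a letter -/
def NF.step (n : NF) : Lt → NF
  | .u p q =>
    let p := fro p n.i
    let q := fro q n.i
    if n.big then { n with c := n.c + p, e := n.e + q + n.c * p ^ 4 }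
    else { n with a := n.a + p * n.k ^ 5, b := n.b + q * n.k ^ 4 + n.a * (p * n.k ^ 5) ^ 4 }
  | .d l =>
    let l := fro l n.i
    if n.big then { n with k := n.k * l ^ 6, c := n.c * l ^ 2, e := n.e * l ^ 3 }
    else { n with k := n.k * l }
  | .w =>
    if n.big then
      if n.c = 0 ∧ n.e = 0 then { n with big := false, c := 0, e := 0 }
      else { n with
        a := n.a + bn 0 n.c n.e * n.k ^ 5,
        b := n.b + bn 1 n.c n.e * n.k ^ 4 + n.a * (bn 0 n.c n.e * n.k ^ 5) ^ 4,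
        k := n.k * bn 2 n.c n.e, c := bn 3 n.c n.e, e := bn 4 n.c n.e }
    else { n with big := true, c := 0, e := 0 }
  | .s => { n with i := n.i + 1 }

/-- admissible letters -/
def Lt.ok : Lt → Bool
  | .d l => decide (l ≠ 0)
  | _ => true

namespace SzData

variable {G : Type*} [Group G] (D : SzData G)

/-- value of a letter -/
def lval : Lt → G
  | .u a b => D.u a b
  | .d k => D.d k
  | .w => D.w
  | .s => D.s

/-- value of a normal form -/
def val (n : NF) : G :=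
  D.u n.a n.b * D.d n.k * (if n.big then D.w * D.u n.c n.e else 1) * D.s ^ n.i.1

theorem val_one : D.val NF.one = 1 := by
  unfold val NF.one
  rw [D.u_zero, D.d_one]
  simp

theorem s_pow_u (i : ℕ) (a b : K8) : D.s ^ i * D.u a b = D.u (a ^ (2 ^ i)) (b ^ (2 ^ i)) * D.s ^ i := by
  induction i with
  | zero => simp
  | succ i ih =>
    calc D.s ^ (i + 1) * D.u a b = D.s * (D.s ^ i * D.u a b) := by rw [pow_succ', mul_assoc]
      _ = (D.s * D.u (a ^ (2 ^ i)) (b ^ (2 ^ i))) * D.s ^ i := by rw [ih, mul_assoc]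
      _ = _ := by rw [D.s_u, pow_succ' D.s, mul_assoc, ← pow_mul, ← pow_mul, ← pow_succ]

theorem s_pow_d (i : ℕ) (k : K8) (hk : k ≠ 0) : D.s ^ i * D.d k = D.d (k ^ (2 ^ i)) * D.s ^ i := by
  induction i with
  | zero => simp
  | succ i ih =>
    calc D.s ^ (i + 1) * D.d k = D.s * (D.s ^ i * D.d k) := by rw [pow_succ', mul_assoc]
      _ = (D.s * D.d (k ^ (2 ^ i))) * D.s ^ i := by rw [ih, mul_assoc]
      _ = _ := by rw [D.s_d _ (pow_ne_zero _ hk), pow_succ' D.s, mul_assoc, ← pow_mul, ← pow_succ]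

theorem s_pow_w (i : ℕ) : D.s ^ i * D.w = D.w * D.s ^ i := by
  induction i with
  | zero => simp
  | succ i ih => rw [pow_succ', mul_assoc, ih, ← mul_assoc, D.s_w, mul_assoc]

theorem fro_ne {x : K8} (i : Fin 3) (hx : x ≠ 0) : fro x i ≠ 0 := pow_ne_zero _ hx

theorem s_succ (i : Fin 3) : D.s ^ i.1 * D.s = D.s ^ (i + 1).1 := by
  fin_cases i
  · show D.s ^ 0 * D.s = D.s ^ 1
    simp
  · show D.s ^ 1 * D.s = D.s ^ 2
    rw [← pow_succ]
  · show D.s ^ 2 * D.s = D.s ^ 0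
    rw [← pow_succ, pow_zero, ← D.s3]
    simp only [pow_succ, pow_zero, one_mul, mul_assoc]

theorem step_k {n : NF} {l : Lt} (hn : n.k ≠ 0) (hl : l.ok = true) : (n.step l).k ≠ 0 := by
  cases l with
  | u p q =>
    unfold NF.step
    dsimp only
    split_ifs <;> exact hn
  | d l =>
    have hl0 : l ≠ 0 := by simpa [Lt.ok] using hl
    unfold NF.step
    dsimp only
    split_ifs
    · exact mul_ne_zero hn (pow_ne_zero _ (fro_ne _ hl0))
    · exact mul_ne_zero hn (fro_ne _ hl0)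
  | w =>
    have key : ∀ a b : K8, ¬ (a = 0 ∧ b = 0) → bn 2 a b ≠ 0 := by decide +kernel
    unfold NF.step
    dsimp only
    split_ifs with h1 h2
    · exact hn
    · exact mul_ne_zero hn (key _ _ h2)
    · exact hn
  | s => exact hn

theorem val_step {n : NF} {l : Lt} (hn : n.k ≠ 0) (hl : l.ok = true) : D.val (n.step l) = D.val n * D.lval l := by
  cases l with
  | u p q =>
    by_cases h : n.big = true
    · simp only [NF.step, lval, val, h, if_true]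
      calc D.u n.a n.b * D.d n.k * (D.w * D.u (n.c + fro p n.i) (n.e + fro q n.i + n.c * fro p n.i ^ 4)) * D.s ^ n.i.1
          = D.u n.a n.b * D.d n.k * (D.w * (D.u n.c n.e * D.u (fro p n.i) (fro q n.i))) * D.s ^ n.i.1 := by
            rw [D.u_mul]
        _ = D.u n.a n.b * D.d n.k * (D.w * D.u n.c n.e) * (D.u (fro p n.i) (fro q n.i) * D.s ^ n.i.1) := by group
        _ = _ := by rw [fro, fro, ← D.s_pow_u]; group
    · simp only [NF.step, lval, val, h]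
      simp only [Bool.false_eq_true, if_false, mul_one]
      calc D.u (n.a + fro p n.i * n.k ^ 5) (n.b + fro q n.i * n.k ^ 4 + n.a * (fro p n.i * n.k ^ 5) ^ 4) * D.d n.k *
            D.s ^ n.i.1
          = D.u n.a n.b * (D.u (fro p n.i * n.k ^ 5) (fro q n.i * n.k ^ 4) * D.d n.k) * D.s ^ n.i.1 := by
            rw [← D.u_mul]; group
        _ = D.u n.a n.b * (D.d n.k * D.u (fro p n.i) (fro q n.i)) * D.s ^ n.i.1 := by rw [D.d_u _ _ _ hn]
        _ = D.u n.a n.b * D.d n.k * (D.u (fro p n.i) (fro q n.i) * D.s ^ n.i.1) := by group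
        _ = _ := by rw [fro, fro, ← D.s_pow_u]; group
  | d l =>
    have hl0 : l ≠ 0 := by simpa [Lt.ok] using hl
    have hf := fro_ne n.i hl0
    by_cases h : n.big = true
    · simp only [NF.step, lval, val, h, if_true]
      calc D.u n.a n.b * D.d (n.k * fro l n.i ^ 6) * (D.w * D.u (n.c * fro l n.i ^ 2) (n.e * fro l n.i ^ 3)) *
            D.s ^ n.i.1
          = D.u n.a n.b * D.d n.k * (D.d (fro l n.i ^ 6) * D.w) * D.u (n.c * fro l n.i ^ 2) (n.e * fro l n.i ^ 3) *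
            D.s ^ n.i.1 := by rw [← D.d_mul _ _ hn (pow_ne_zero _ hf)]; group
        _ = D.u n.a n.b * D.d n.k * D.w * (D.d (fro l n.i) * D.u (n.c * fro l n.i ^ 2) (n.e * fro l n.i ^ 3)) *
            D.s ^ n.i.1 := by rw [← D.w_d _ hf]; group
        _ = D.u n.a n.b * D.d n.k * (D.w * D.u n.c n.e) * (D.d (fro l n.i) * D.s ^ n.i.1) := by
            rw [← D.u_d _ _ _ hf]; group
        _ = _ := by rw [fro, ← D.s_pow_d _ _ hl0]; group
    · simp only [NF.step, lval, val, h]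
      simp only [Bool.false_eq_true, if_false, mul_one]
      calc D.u n.a n.b * D.d (n.k * fro l n.i) * D.s ^ n.i.1
          = D.u n.a n.b * D.d n.k * (D.d (fro l n.i) * D.s ^ n.i.1) := by rw [← D.d_mul _ _ hn hf]; group
        _ = _ := by rw [fro, ← D.s_pow_d _ _ hl0]; group
  | w =>
    by_cases h : n.big = true
    · by_cases h2 : n.c = 0 ∧ n.e = 0
      · simp only [NF.step, lval, val, h, if_true, h2, and_self, Bool.false_eq_true, if_false]
        rw [D.u_zero, mul_one, mul_one, mul_assoc _ (D.s ^ _), D.s_pow_w, ← mul_assoc, mul_assoc _ D.w D.w, D.w_w,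
          mul_one]
      · simp only [NF.step, lval, val, h, if_true, h2, if_false]
        have hP := D.bn_thm h2
        unfold P at hP
        have key : ∀ a b : K8, ¬ (a = 0 ∧ b = 0) → bn 2 a b ≠ 0 := by decide +kernel
        have hb := key _ _ h2
        calc D.u (n.a + bn 0 n.c n.e * n.k ^ 5)
              (n.b + bn 1 n.c n.e * n.k ^ 4 + n.a * (bn 0 n.c n.e * n.k ^ 5) ^ 4) * D.d (n.k * bn 2 n.c n.e) *
              (D.w * D.u (bn 3 n.c n.e) (bn 4 n.c n.e)) * D.s ^ n.i.1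
            = D.u n.a n.b * (D.u (bn 0 n.c n.e * n.k ^ 5) (bn 1 n.c n.e * n.k ^ 4) * D.d n.k) * D.d (bn 2 n.c n.e) *
              (D.w * D.u (bn 3 n.c n.e) (bn 4 n.c n.e)) * D.s ^ n.i.1 := by
              rw [← D.u_mul, ← D.d_mul _ _ hn hb]; group
          _ = D.u n.a n.b * D.d n.k * (D.u (bn 0 n.c n.e) (bn 1 n.c n.e) * D.d (bn 2 n.c n.e) *
              D.w * D.u (bn 3 n.c n.e) (bn 4 n.c n.e)) * D.s ^ n.i.1 := by rw [← D.d_u _ _ _ hn]; group
          _ = D.u n.a n.b * D.d n.k * (D.w * D.u n.c n.e) * (D.w * D.s ^ n.i.1) := by rw [← hP]; group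
          _ = _ := by rw [← D.s_pow_w]; group
    · simp only [NF.step, lval, val, h]
      simp only [Bool.false_eq_true, if_false, if_true, mul_one]
      rw [D.u_zero, mul_one, mul_assoc _ (D.s ^ _), D.s_pow_w, ← mul_assoc]
  | s =>
    simp only [NF.step, lval, val]
    rw [mul_assoc _ (D.s ^ _), D.s_succ]
    rfl

/-- the value of a word -/
def wval (l : List Lt) : G := (l.map D.lval).prod

theorem wval_nil : D.wval [] = 1 := rfl

theorem wval_cons (x : Lt) (l : List Lt) : D.wval (x :: l) = D.lval x * D.wval l := by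
  unfold wval
  rw [List.map_cons, List.prod_cons]

theorem wval_append (l m : List Lt) : D.wval (l ++ m) = D.wval l * D.wval m := by
  unfold wval
  rw [List.map_append, List.prod_append]

theorem val_foldl (l : List Lt) (hl : l.all Lt.ok = true) : ∀ n : NF, n.k ≠ 0 →
    D.val (l.foldl NF.step n) = D.val n * D.wval l := by
  induction l with
  | nil => intro n _; rw [List.foldl_nil, wval_nil, mul_one]
  | cons x l ih =>
    intro n hn
    rw [List.all_cons, Bool.and_eq_true] at hl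
    rw [List.foldl_cons, ih hl.2 _ (step_k hn hl.1), D.val_step hn hl.1, D.wval_cons, mul_assoc]

/-- normal form of a word -/
def run (l : List Lt) : NF := l.foldl NF.step NF.one

theorem val_run (l : List Lt) (hl : l.all Lt.ok = true) : D.val (run l) = D.wval l := by
  unfold run
  rw [D.val_foldl l hl NF.one one_ne_zero, D.val_one, one_mul]

/-- the decision procedure: words with the same normal form are equal -/
theorem wval_eq (l m : List Lt) (h : (l.all Lt.ok && m.all Lt.ok && decide (run l = run m)) = true) :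
    D.wval l = D.wval m := by
  simp only [Bool.and_eq_true, decide_eq_true_eq] at h
  rw [← D.val_run l h.1.1, ← D.val_run m h.1.2, h.2]

theorem wval_eq_one (l : List Lt) (h : (l.all Lt.ok && decide (run l = NF.one)) = true) : D.wval l = 1 := by
  simp only [Bool.and_eq_true, decide_eq_true_eq] at h
  rw [← D.val_run l h.1, h.2, D.val_one]

end SzData

end Cfsg.Agent.RuE

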